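import Cfsg.Agent.Lib.PresSU3.Tgt

/-!
# The abstract argument: a group with a split structure maps isomorphically onto the unitary group

A group generated by a subgroup mapping isomorphically to the unipotent subgroup of `SU₃`, a cyclic
torus and a Weyl element is isomorphic to `SU₃` as soon as a few Moufang relations hold.
-/

set_option autoImplicit false

namespace Cfsg.Agent.Lib.PresSU3

open Cfsg

variable {F : Type*} [Field F] {σ : F →+* F} {Γ : Type*} [Group Γ]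

/-- The big cell. -/
def BW (Qh : Subgroup Γ) (H W : Γ) : Set Γ := {g | ∃ q₁ ∈ Qh, ∃ i : ℤ, ∃ q₂ ∈ Qh, g = q₁ * W * H ^ i * q₂}

/-- The structure. -/
structure Ctx (hσ : ∀ x, σ (σ x) = x) (ζ : Fˣ) (φ : Γ →* GG σ) (Qh : Subgroup Γ) (H W : Γ) (k₀ : ℤ) : Prop where
  Qr : ∀ x ∈ Qh, ∃ a b, ∃ h : b + σ b + a * σ a = 0, φ x = qq hσ a b h
  Qinj : ∀ x ∈ Qh, φ x = 1 → x = 1
  Qs : ∀ a b, ∀ h : b + σ b + a * σ a = 0, ∃ x ∈ Qh, φ x = qq hσ a b h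
  HQ : ∀ x ∈ Qh, H * x * H⁻¹ ∈ Qh
  HQ' : ∀ x ∈ Qh, H⁻¹ * x * H ∈ Qh
  φH : φ H = tt hσ ζ
  φW : φ W = ww σ
  Hord : ∀ j : ℤ, ζ ^ j = 1 → H ^ j = 1
  W2 : W * W = 1
  WH : W * H * W⁻¹ = H ^ k₀

namespace Ctx

variable {hσ : ∀ x, σ (σ x) = x} {ζ : Fˣ} {φ : Γ →* GG σ} {Qh : Subgroup Γ} {H W : Γ} {k₀ : ℤ}
  (C : Ctx hσ ζ φ Qh H W k₀)
include C

lemma Wi : W⁻¹ = W := inv_eq_of_mul_eq_one_right C.W2

lemma HzQ (j : ℤ) {x : Γ} (hx : x ∈ Qh) : H ^ j * x * H ^ (-j) ∈ Qh := by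
  obtain ⟨n, rfl | rfl⟩ := Int.eq_nat_or_neg j
  · induction n with
    | zero => simpa using hx
    | succ n ih =>
      have := C.HQ _ ih
      convert this using 1
      simp only [zpow_neg, zpow_natCast]
      rw [pow_succ']
      group
  · induction n with
    | zero => simpa using hx
    | succ n ih =>
      have := C.HQ' _ ih
      convert this using 1
      simp only [neg_neg, zpow_neg, zpow_natCast, inv_inv]
      rw [pow_succ']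
      group

lemma WHz (j : ℤ) : W * H ^ j * W⁻¹ = H ^ (k₀ * j) := by
  rw [← conj_zpow, C.WH, zpow_mul]

lemma HzW (j : ℤ) : H ^ j * W = W * H ^ (k₀ * j) := by
  have h := C.WHz j
  rw [C.Wi] at h
  rw [← h]
  calc H ^ j * W = W * W * (H ^ j * W) := by rw [C.W2]; group
    _ = _ := by group

lemma φHz (j : ℤ) : φ (H ^ j) = tt hσ (ζ ^ j) := by
  rw [map_zpow, C.φH, tt_zpow]

/-! ### The big cell -/

lemma BW_left {q x : Γ} (hq : q ∈ Qh) (hx : x ∈ BW Qh H W) : q * x ∈ BW Qh H W := by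
  obtain ⟨q₁, h₁, i, q₂, h₂, rfl⟩ := hx
  exact ⟨q * q₁, mul_mem hq h₁, i, q₂, h₂, by group⟩

lemma BW_right {q x : Γ} (hq : q ∈ Qh) (hx : x ∈ BW Qh H W) : x * q ∈ BW Qh H W := by
  obtain ⟨q₁, h₁, i, q₂, h₂, rfl⟩ := hx
  exact ⟨q₁, h₁, i, q₂ * q, mul_mem h₂ hq, by group⟩

lemma BW_Hleft (j : ℤ) {x : Γ} (hx : x ∈ BW Qh H W) : H ^ j * x ∈ BW Qh H W := by
  obtain ⟨q₁, h₁, i, q₂, h₂, rfl⟩ := hx
  refine ⟨H ^ j * q₁ * H ^ (-j), C.HzQ j h₁, k₀ * j + i, q₂, h₂, ?_⟩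
  have e := C.HzW j
  calc H ^ j * (q₁ * W * H ^ i * q₂)
      = (H ^ j * q₁ * H ^ (-j)) * (H ^ j * W) * H ^ i * q₂ := by group
    _ = _ := by rw [e, zpow_add]; group

lemma BW_Hright (j : ℤ) {x : Γ} (hx : x ∈ BW Qh H W) : x * H ^ j ∈ BW Qh H W := by
  obtain ⟨q₁, h₁, i, q₂, h₂, rfl⟩ := hx
  refine ⟨q₁, h₁, i + j, H ^ (-j) * q₂ * H ^ (- -j), C.HzQ (-j) h₂, ?_⟩
  rw [zpow_add]
  group

/-- The composition rule. -/
lemma BW_comp {q₁ q₂ q₁' q₂' : Γ} (h₁ : q₁ ∈ Qh) (h₂' : q₂' ∈ Qh) (i i' : ℤ)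
    (hm : W * (q₂ * q₁') * W⁻¹ ∈ BW Qh H W) :
    (q₁ * W * H ^ i * q₂) * (q₁' * W * H ^ i' * q₂') ∈ BW Qh H W := by
  have e : (q₁ * W * H ^ i * q₂) * (q₁' * W * H ^ i' * q₂') =
      q₁ * (H ^ (k₀ * i) * ((W * (q₂ * q₁') * W⁻¹) * H ^ i')) * q₂' := by
    rw [← C.WHz i]
    have e2 : W * H ^ i * W⁻¹ * (W * (q₂ * q₁') * W⁻¹ * H ^ i') = W * H ^ i * (q₂ * q₁') * W⁻¹ * H ^ i' := by
      group
    rw [e2, C.Wi]
    group
  rw [e]
  exact C.BW_right h₂' (C.BW_left h₁ (C.BW_Hleft _ (C.BW_Hright _ hm)))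

/-- The torus preserves the big cell relation. -/
lemma BW_tor (j : ℤ) {x : Γ} (hx : W * x * W⁻¹ ∈ BW Qh H W) :
    W * (H ^ j * x * H ^ (-j)) * W⁻¹ ∈ BW Qh H W := by
  have e : W * (H ^ j * x * H ^ (-j)) * W⁻¹ =
      H ^ (k₀ * j) * ((W * x * W⁻¹) * H ^ (k₀ * -j)) := by
    rw [← C.WHz j, ← C.WHz (-j)]
    group
  rw [e]
  exact C.BW_Hleft _ (C.BW_Hright _ hx)

/-- The parts of the big cell expression. -/
lemma exact_parts {x q₁ q₂ : Γ} {i : ℤ} {a b : F} {h : b + σ b + a * σ a = 0} (hb : b ≠ 0)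
    (h₁ : q₁ ∈ Qh) (h₂ : q₂ ∈ Qh) (hx : φ x = qq hσ a b h)
    (e : W * x * W⁻¹ = q₁ * W * H ^ i * q₂) :
    φ q₁ = qq hσ (-a / σ b) (1 / b) (cstr_rho2 hσ hb h) ∧ φ q₂ = qq hσ (-a / b) (1 / b) (cstr_rho1 hσ hb h) := by
  obtain ⟨a₁, b₁, c₁, e₁⟩ := C.Qr _ h₁
  obtain ⟨a₂, b₂, c₂, e₂⟩ := C.Qr _ h₂
  have e3 := congrArg φ e
  simp only [map_mul, map_inv, hx, C.φW, C.φHz, e₁, e₂] at e3
  rw [moufang hσ hb h] at e3
  obtain ⟨r1, r2, -, r3, r4⟩ := big_inj hσ e3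
  constructor
  · rw [e₁]
    exact (qq_congr hσ _ r1 r2).symm ▸ rfl
  · rw [e₂]
    exact (qq_congr hσ _ r3 r4).symm ▸ rfl

end Ctx

/-- The arrow property. -/
def Arw (hσ : ∀ x, σ (σ x) = x) (φ : Γ →* GG σ) (Qh : Subgroup Γ) (H W : Γ) (a b : F) : Prop :=
  ∀ h : b + σ b + a * σ a = 0, ∀ x ∈ Qh, φ x = qq hσ a b h → W * x * W⁻¹ ∈ BW Qh H W

/-- The fibre parameter. -/
def bb (σ : F →+* F) (a c : F) : F := a * σ a / (c - 1)

section fields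

variable (hσ : ∀ x, σ (σ x) = x)
include hσ

lemma sig_of_norm {c : F} (hc : c * σ c = 1) : σ c = c⁻¹ := eq_inv_of_mul_eq_one_right hc

lemma c_ne_zero {c : F} (hc : c * σ c = 1) : c ≠ 0 := by
  rintro rfl
  simp at hc

lemma sig_N (a : F) : σ (a * σ a) = a * σ a := by
  rw [map_mul, hσ, mul_comm]

lemma cstr_bb (a : F) {c : F} (hc : c * σ c = 1) (hc1 : c ≠ 1) :
    bb σ a c + σ (bb σ a c) + a * σ a = 0 := by
  have h0 := c_ne_zero hσ hc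
  have h2 : c - 1 ≠ 0 := sub_ne_zero.2 hc1
  have h3 : 1 - c ≠ 0 := sub_ne_zero.2 hc1.symm
  simp only [bb, map_div₀, map_sub, map_one, sig_N hσ, sig_of_norm hσ hc]
  have e : c⁻¹ - 1 = (1 - c) / c := by field_simp
  rw [e]
  field_simp
  ring

lemma bb_ne (a : F) (ha : a ≠ 0) {c : F} (hc1 : c ≠ 1) : bb σ a c ≠ 0 := by
  have : σ a ≠ 0 := (map_ne_zero σ).2 ha
  exact div_ne_zero (mul_ne_zero ha this) (sub_ne_zero.2 hc1)

/-- The correction element. -/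
def dd (σ : F →+* F) (a c₁ c₂ : F) : F :=
  -(a * σ a) * c₁ * (c₂ - 1) / ((c₁ - 1) * (c₁ * c₂ - 1))

lemma dd_ne {a c₁ c₂ : F} (ha : a ≠ 0) (h1 : c₁ * σ c₁ = 1) (h2 : c₂ ≠ 1) (h3 : c₁ ≠ 1) (h4 : c₁ * c₂ ≠ 1) :
    dd σ a c₁ c₂ ≠ 0 := by
  have : σ a ≠ 0 := (map_ne_zero σ).2 ha
  have h0 := c_ne_zero hσ h1
  refine div_ne_zero (mul_ne_zero (mul_ne_zero (neg_ne_zero.2 (mul_ne_zero ha this)) h0) (sub_ne_zero.2 h2))
    (mul_ne_zero (sub_ne_zero.2 h3) (sub_ne_zero.2 h4))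

lemma dd_add {a c₁ c₂ : F} (h1 : c₁ * σ c₁ = 1) (h3 : c₁ ≠ 1) (h4 : c₁ * c₂ ≠ 1) :
    bb σ a c₁ + dd σ a c₁ c₂ = bb σ a (c₁ * c₂) := by
  have e1 : c₁ - 1 ≠ 0 := sub_ne_zero.2 h3
  have e2 : c₁ * c₂ - 1 ≠ 0 := sub_ne_zero.2 h4
  simp only [bb, dd]
  field_simp
  ring

lemma dd_sig {a c₁ c₂ : F} (h1 : c₁ * σ c₁ = 1) (h2 : c₂ * σ c₂ = 1) (h3 : c₁ ≠ 1) (h4 : c₁ * c₂ ≠ 1) :
    σ (dd σ a c₁ c₂) = - dd σ a c₁ c₂ := by
  have e0 := c_ne_zero hσ h1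
  have e0' := c_ne_zero hσ h2
  have e1 : c₁ - 1 ≠ 0 := sub_ne_zero.2 h3
  have e2 : c₁ * c₂ - 1 ≠ 0 := sub_ne_zero.2 h4
  have e3 : 1 - c₁ ≠ 0 := sub_ne_zero.2 h3.symm
  have e4 : 1 - c₁ * c₂ ≠ 0 := sub_ne_zero.2 h4.symm
  simp only [dd, map_div₀, map_mul, map_neg, map_sub, map_one, hσ, sig_of_norm hσ h1, sig_of_norm hσ h2]
  have e5 : c₁⁻¹ - 1 = (1 - c₁) / c₁ := by field_simp
  have e6 : c₂⁻¹ - 1 = (1 - c₂) / c₂ := by field_simp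
  have e7 : c₁⁻¹ * c₂⁻¹ - 1 = (1 - c₁ * c₂) / (c₁ * c₂) := by field_simp
  rw [e5, e6, e7]
  field_simp
  ring

/-- The first coordinate of the new element. -/
lemma dd_inv_add {a c₁ c₂ : F} (ha : a ≠ 0) (h1 : c₁ * σ c₁ = 1) (h2 : c₂ * σ c₂ = 1) (h2' : c₂ ≠ 1) (h3 : c₁ ≠ 1)
    (h4 : c₁ * c₂ ≠ 1) :
    1 / bb σ a c₁ + 1 / dd σ a c₁ c₂ = bb σ (-a / bb σ a c₁) c₂ := by
  have e0 := c_ne_zero hσ h1
  have e1 : c₁ - 1 ≠ 0 := sub_ne_zero.2 h3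
  have e2 : c₁ * c₂ - 1 ≠ 0 := sub_ne_zero.2 h4
  have e3 : 1 - c₁ ≠ 0 := sub_ne_zero.2 h3.symm
  have e4 : c₂ - 1 ≠ 0 := sub_ne_zero.2 h2'
  have es : σ a ≠ 0 := (map_ne_zero σ).2 ha
  simp only [bb, dd, map_div₀, map_neg, map_mul, map_sub, map_one, hσ, sig_of_norm hσ h1]
  have e5 : c₁⁻¹ - 1 = (1 - c₁) / c₁ := by field_simp
  rw [e5]
  field_simp
  ring

end fields

namespace Ctx

variable {hσ : ∀ x, σ (σ x) = x} {ζ : Fˣ} {φ : Γ →* GG σ} {Qh : Subgroup Γ} {H W : Γ} {k₀ : ℤ}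
  (C : Ctx hσ ζ φ Qh H W k₀)
include C

lemma Qeq {x y : Γ} (hx : x ∈ Qh) (hy : y ∈ Qh) (e : φ x = φ y) : x = y := by
  have h1 : φ (x * y⁻¹) = 1 := by
    rw [map_mul, map_inv, e, mul_inv_cancel]
  have h2 := C.Qinj _ (mul_mem hx (inv_mem hy)) h1
  exact mul_inv_eq_one.1 h2

lemma φ_tor (j : ℤ) {x : Γ} {a b : F} {h : b + σ b + a * σ a = 0} (hx : φ x = qq hσ a b h) :
    φ (H ^ j * x * H ^ (-j)) = qq hσ (ac σ ((ζ ^ j : Fˣ) : F) * a) (nrm σ ((ζ ^ j : Fˣ) : F) * b)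
      (cstr_tt hσ (ζ ^ j).ne_zero h) := by
  rw [map_mul, map_mul, hx, C.φHz, C.φHz, zpow_neg, ← tt_inv, tt_qq]

/-- The torus action on arrows. -/
lemma arw_tor (j : ℤ) {a b : F} (hA : Arw hσ φ Qh H W a b) :
    Arw hσ φ Qh H W (ac σ ((ζ ^ j : Fˣ) : F) * a) (nrm σ ((ζ ^ j : Fˣ) : F) * b) := by
  intro h' x hx ex
  set t : Fˣ := ζ ^ j with ht
  have h0 := t.ne_zero
  have hs : σ (t : F) ≠ 0 := (map_ne_zero σ).2 h0
  have h : b + σ b + a * σ a = 0 := by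
    have e1 : nrm σ (t : F) * (b + σ b + a * σ a) = 0 := by
      rw [← h']
      rw [map_mul, map_mul, sig_nrm hσ, sig_ac hσ]
      simp only [ac, nrm]
      field_simp
    exact (mul_eq_zero.1 e1).resolve_left (mul_ne_zero h0 hs)
  obtain ⟨x₁, hx₁, ex₁⟩ := C.Qs a b h
  have e : x = H ^ j * x₁ * H ^ (-j) := by
    refine C.Qeq hx (C.HzQ j hx₁) ?_
    rw [ex, C.φ_tor j ex₁]
  rw [e]
  exact C.BW_tor j (hA h x₁ hx₁ ex₁)

/-- The composition of arrows. -/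
lemma arw_comp {a c₁ c₂ : F} (ha : a ≠ 0) (h1 : c₁ * σ c₁ = 1) (h2 : c₂ * σ c₂ = 1) (h1' : c₁ ≠ 1) (h2' : c₂ ≠ 1)
    (h3 : c₁ * c₂ ≠ 1)
    (A1 : Arw hσ φ Qh H W a (bb σ a c₁)) (A2 : Arw hσ φ Qh H W 0 (dd σ a c₁ c₂))
    (A3 : Arw hσ φ Qh H W (-a / bb σ a c₁) (bb σ (-a / bb σ a c₁) c₂)) :
    Arw hσ φ Qh H W a (bb σ a (c₁ * c₂)) := by
  intro h x hx ex
  set b := bb σ a c₁ with hb
  set d := dd σ a c₁ c₂ with hd
  have hb0 : b ≠ 0 := bb_ne hσ a ha h1'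
  have hd0 : d ≠ 0 := dd_ne hσ ha h1 h2' h1' h3
  have hsd : σ d = -d := dd_sig hσ h1 h2 h1' h3
  have c1 : b + σ b + a * σ a = 0 := cstr_bb hσ a h1 h1'
  have c2 : d + σ d + 0 * σ 0 = 0 := by rw [hsd]; ring
  obtain ⟨x₁, hx₁, ex₁⟩ := C.Qs a b c1
  obtain ⟨x₂, hx₂, ex₂⟩ := C.Qs 0 d c2
  have e : x = x₁ * x₂ := by
    refine C.Qeq hx (mul_mem hx₁ hx₂) ?_
    rw [ex, map_mul, ex₁, ex₂, qq_mul]
    have e1 : a + 0 = a := add_zero a
    have e2 : b + d - a * σ 0 = bb σ a (c₁ * c₂) := by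
      rw [map_zero, mul_zero, sub_zero]
      exact dd_add hσ h1 h1' h3
    simp only [e1, e2]
  obtain ⟨q₁, hq₁, i, q₂, hq₂, e1⟩ := A1 c1 x₁ hx₁ ex₁
  obtain ⟨q₁', hq₁', i', q₂', hq₂', e2⟩ := A2 c2 x₂ hx₂ ex₂
  have p1 := (C.exact_parts hb0 hq₁ hq₂ ex₁ e1).2
  have p2 := (C.exact_parts hd0 hq₁' hq₂' ex₂ e2).1
  have hm : q₂ * q₁' ∈ Qh := mul_mem hq₂ hq₁'
  have cm := cstr_bb hσ (-a / b) h2 h2'
  have em : φ (q₂ * q₁') = qq hσ (-a / b) (bb σ (-a / b) c₂) cm := by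
    rw [map_mul, p1, p2, qq_mul]
    have e3 : -a / b + -0 / σ d = -a / b := by simp
    have e4 : 1 / b + 1 / d - -a / b * σ (-0 / σ d) = bb σ (-a / b) c₂ := by
      have : (-0 : F) / σ d = 0 := by simp
      rw [this, map_zero, mul_zero, sub_zero]
      exact dd_inv_add hσ ha h1 h2 h2' h1' h3
    simp only [e3, e4]
  have hg := A3 cm _ hm em
  rw [e]
  have e5 : W * (x₁ * x₂) * W⁻¹ = (W * x₁ * W⁻¹) * (W * x₂ * W⁻¹) := by group
  rw [e5, e1, e2]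
  exact C.BW_comp hq₁ hq₂' i i' hg

/-- All the arrows, from the base ones. -/
theorem all_arrows (hζ : ∀ u : Fˣ, ∃ k : ℤ, ζ ^ k = u)
    (hnorm : ∀ x : F, σ x = x → x ≠ 0 → ∃ t : Fˣ, nrm σ (t : F) = x)
    {c₀ d₀ : F} (hc₀ : c₀ * σ c₀ = 1) (hc₀1 : c₀ ≠ 1) (hgenC : ∀ c, c * σ c = 1 → ∃ k : ℕ, c₀ ^ k = c)
    (hd₀ : d₀ ≠ 0) (hsd₀ : σ d₀ = -d₀) (hZ : Arw hσ φ Qh H W 0 d₀)
    (hA : ∀ i : ℕ, i < 3 → Arw hσ φ Qh H W (((ζ ^ i : Fˣ) : F)) (bb σ ((ζ ^ i : Fˣ) : F) c₀))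
    {x : Γ} (hx : x ∈ Qh) (hx1 : x ≠ 1) : W * x * W⁻¹ ∈ BW Qh H W := by
  -- the central arrows
  have arwZ : ∀ d : F, d ≠ 0 → σ d = -d → Arw hσ φ Qh H W 0 d := by
    intro d hd hsd
    have e1 : σ (d / d₀) = d / d₀ := by
      rw [map_div₀, hsd, hsd₀, neg_div_neg_eq]
    obtain ⟨t, ht⟩ := hnorm _ e1 (div_ne_zero hd hd₀)
    obtain ⟨j, rfl⟩ := hζ t
    have := C.arw_tor j hZ
    rw [mul_zero, ht, div_mul_cancel₀ _ hd₀] at this
    exact this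
  -- the base arrows for all first coordinates
  have arwA : ∀ a : F, a ≠ 0 → Arw hσ φ Qh H W a (bb σ a c₀) := by
    intro a ha
    obtain ⟨l, hl⟩ := hζ (Units.mk0 a ha)
    have hla : a = ((ζ ^ l : Fˣ) : F) := by rw [hl]; rfl
    set s := l / 3 with hs
    set r := l % 3 with hr
    have hr0 : 0 ≤ r := Int.emod_nonneg _ (by norm_num)
    have hr3 : r < 3 := Int.emod_lt_of_pos _ (by norm_num)
    obtain ⟨i, hi⟩ := Int.eq_ofNat_of_zero_le hr0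
    have hi3 : i < 3 := by omega
    have hl2 : l = 3 * s + i := by
      have := Int.mul_ediv_add_emod l 3
      omega
    set w : Fˣ := ζ ^ s with hw
    set t : Fˣ := w * Units.mk0 (nrm σ (w : F)) (mul_ne_zero w.ne_zero ((map_ne_zero σ).2 w.ne_zero)) with ht
    obtain ⟨j, hj⟩ := hζ t
    have h0 := w.ne_zero
    have hsw : σ (w : F) ≠ 0 := (map_ne_zero σ).2 h0
    have ht1 : (t : F) = w * (w * σ w) := rfl
    have hst : σ (t : F) = σ w * (w * σ w) := by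
      rw [ht1, map_mul, map_mul, hσ]
      ring
    have hac : ac σ (t : F) = (w : F) ^ 3 := by
      rw [ac, hst, ht1]
      field_simp
    have hnr : nrm σ (t : F) = ((w : F) * σ w) ^ 3 := by
      rw [nrm, hst, ht1]
      ring
    have hai : a = ac σ (t : F) * ((ζ ^ i : Fˣ) : F) := by
      rw [hla, hac, hl2, zpow_add, zpow_mul', Units.val_mul, ← hw]
      simp
    have hsz : σ (((ζ ^ i : Fˣ) : F)) = σ (((ζ ^ i : Fˣ) : F)) := rfl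
    have hN : a * σ a = nrm σ (t : F) * (((ζ ^ i : Fˣ) : F) * σ ((ζ ^ i : Fˣ) : F)) := by
      rw [hai, map_mul, sig_ac hσ, hnr, hac, hst, ht1]
      field_simp
    have h3 := C.arw_tor j (hA i hi3)
    rw [hj] at h3
    have e3 : nrm σ (t : F) * bb σ ((ζ ^ i : Fˣ) : F) c₀ = bb σ a c₀ := by
      simp only [bb]
      rw [hN]
      ring
    rw [← hai, e3] at h3
    exact h3
  -- multiplicativity
  have hmul : ∀ c₁ c₂ : F, c₁ * σ c₁ = 1 → c₂ * σ c₂ = 1 →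
      (c₁ = 1 ∨ ∀ a : F, a ≠ 0 → Arw hσ φ Qh H W a (bb σ a c₁)) →
      (c₂ = 1 ∨ ∀ a : F, a ≠ 0 → Arw hσ φ Qh H W a (bb σ a c₂)) →
      (c₁ * c₂ = 1 ∨ ∀ a : F, a ≠ 0 → Arw hσ φ Qh H W a (bb σ a (c₁ * c₂))) := by
    intro c₁ c₂ h1 h2 P1 P2
    by_cases h1' : c₁ = 1
    · subst h1'
      rwa [one_mul]
    by_cases h2' : c₂ = 1
    · subst h2'
      rwa [mul_one]
    by_cases h3 : c₁ * c₂ = 1
    · exact Or.inl h3
    right
    intro a ha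
    have P1' := P1.resolve_left h1'
    have P2' := P2.resolve_left h2'
    refine C.arw_comp ha h1 h2 h1' h2' h3 (P1' a ha) ?_ (P2' _ ?_)
    · exact arwZ _ (dd_ne hσ ha h1 h2' h1' h3) (dd_sig hσ h1 h2 h1' h3)
    · exact div_ne_zero (neg_ne_zero.2 ha) (bb_ne hσ a ha h1')
  have hnp : ∀ k : ℕ, c₀ ^ k * σ (c₀ ^ k) = 1 := by
    intro k
    rw [map_pow, ← mul_pow, hc₀, one_pow]
  have hP : ∀ k : ℕ, c₀ ^ k = 1 ∨ ∀ a : F, a ≠ 0 → Arw hσ φ Qh H W a (bb σ a (c₀ ^ k)) := by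
    intro k
    induction k with
    | zero => exact Or.inl (pow_zero _)
    | succ k ih =>
      rw [pow_succ]
      exact hmul _ _ (hnp k) hc₀ ih (Or.inr arwA)
  -- the conclusion
  obtain ⟨a, b, h, ex⟩ := C.Qr x hx
  have hb : b ≠ 0 := by
    rintro rfl
    have h5 : a * σ a = 0 := by simpa using h
    have h6 : a = 0 := by
      rcases mul_eq_zero.1 h5 with h7 | h7
      · exact h7
      · exact (map_eq_zero σ).1 h7
    subst h6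
    apply hx1
    apply C.Qinj x hx
    rw [ex]
    exact qq_zero hσ
  by_cases ha : a = 0
  · subst ha
    refine arwZ b hb ?_ h x hx ex
    linear_combination h
  · have hsa : σ a ≠ 0 := (map_ne_zero σ).2 ha
    have hsb : σ b ≠ 0 := (map_ne_zero σ).2 hb
    set c := -σ b / b with hc
    have hcn : c * σ c = 1 := by
      rw [hc, map_div₀, map_neg, hσ]
      field_simp
    have hc1 : c - 1 ≠ 0 := by
      intro h5
      have h6 : a * σ a = 0 := by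
        have h7 : c = 1 := sub_eq_zero.1 h5
        rw [hc, div_eq_one_iff_eq hb] at h7
        linear_combination h + h7
      rcases mul_eq_zero.1 h6 with h7 | h7
      · exact ha h7
      · exact hsa h7
    have hbb : bb σ a c = b := by
      have h5 : c - 1 = a * σ a / b := by
        rw [hc]
        field_simp
        linear_combination (-1 : F) * h
      rw [bb, h5]
      field_simp
    obtain ⟨k, hk⟩ := hgenC c hcn
    have hP2 := hP k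
    rw [hk] at hP2
    rcases hP2 with h5 | h5
    · exact absurd (sub_eq_zero.2 h5) hc1
    · have := h5 a ha
      rw [hbb] at this
      exact this h x hx ex

/-- The conclusion of the abstract argument. -/
theorem phi_inj (hgen : Subgroup.closure ((Qh : Set Γ) ∪ {H, W}) = ⊤)
    (hbig : ∀ x ∈ Qh, x ≠ 1 → W * x * W⁻¹ ∈ BW Qh H W) : Function.Injective φ := by
  -- the normal form
  let S : Set Γ := {x | (∃ q ∈ Qh, ∃ j : ℤ, x = q * H ^ j) ∨ x ∈ BW Qh H W}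
  have hWQ : ∀ {x : Γ}, x ∈ BW Qh H W → W * x ∈ S := by
    rintro _ ⟨q₁, h₁, i, q₂, h₂, rfl⟩
    by_cases h : q₁ = 1
    · subst h
      left
      refine ⟨H ^ i * q₂ * H ^ (-i), C.HzQ i h₂, i, ?_⟩
      have e1 := C.W2
      calc W * (1 * W * H ^ i * q₂) = (W * W) * H ^ i * q₂ := by group
        _ = _ := by rw [e1]; group
    · right
      have e1 : W * (q₁ * W * H ^ i * q₂) = (W * q₁ * W⁻¹) * (H ^ i * q₂) := by
        rw [C.Wi]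
        group
      rw [e1]
      obtain ⟨r₁, hr₁, k, r₂, hr₂, e2⟩ := hbig q₁ h₁ h
      exact e2 ▸ (by
        have := C.BW_right h₂ (C.BW_Hright i (show r₁ * W * H ^ k * r₂ ∈ BW Qh H W from ⟨r₁, hr₁, k, r₂, hr₂, rfl⟩))
        rw [mul_assoc (r₁ * W * H ^ k * r₂)] at this
        exact this)
  have step : ∀ s ∈ ((Qh : Set Γ) ∪ {H, W}), ∀ x ∈ S, s * x ∈ S := by
    rintro s (hs | hs | hs) x hx
    · rcases hx with ⟨q, hq, j, rfl⟩ | hx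
      · left
        exact ⟨s * q, mul_mem hs hq, j, by group⟩
      · right
        exact C.BW_left hs hx
    · subst hs
      rcases hx with ⟨q, hq, j, rfl⟩ | hx
      · left
        refine ⟨s * q * s⁻¹, C.HQ q hq, j + 1, ?_⟩
        rw [zpow_add, zpow_one]
        have : s ^ j * s = s * s ^ j := (Commute.zpow_left (Commute.refl s) j).eq
        rw [this]
        group
      · right
        have := C.BW_Hleft 1 hx
        rwa [zpow_one] at this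
    · rw [Set.mem_singleton_iff] at hs
      subst hs
      rcases hx with ⟨q, hq, j, rfl⟩ | hx
      · right
        refine ⟨1, one_mem _, j, H ^ (-j) * q * H ^ (- -j), C.HzQ (-j) hq, ?_⟩
        group
      · exact hWQ hx
  have step' : ∀ s ∈ ((Qh : Set Γ) ∪ {H, W}), ∀ x ∈ S, s⁻¹ * x ∈ S := by
    rintro s (hs | hs | hs) x hx
    · exact step s⁻¹ (Or.inl (inv_mem hs)) x hx
    · subst hs
      rcases hx with ⟨q, hq, j, rfl⟩ | hx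
      · left
        refine ⟨s⁻¹ * q * s, C.HQ' q hq, j - 1, ?_⟩
        rw [zpow_sub, zpow_one]
        have : s ^ j * s⁻¹ = s⁻¹ * s ^ j := (Commute.zpow_left (Commute.refl s).inv_right j).eq
        rw [this]
        group
      · right
        have := C.BW_Hleft (-1) hx
        rwa [zpow_neg, zpow_one] at this
    · rw [Set.mem_singleton_iff] at hs
      subst hs
      rw [C.Wi]
      exact step s (Or.inr (Or.inr rfl)) x hx
  have hall : ∀ x : Γ, x ∈ S := by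
    intro x
    have hx : x ∈ Subgroup.closure ((Qh : Set Γ) ∪ {H, W}) := by
      rw [hgen]
      trivial
    induction hx using Subgroup.closure_induction_left with
    | one => exact Or.inl ⟨1, one_mem _, 0, by simp⟩
    | mul_left x hx y _ ih => exact step x hx y ih
    | inv_mul_cancel x hx y _ ih => exact step' x hx y ih
  rw [injective_iff_map_eq_one]
  intro x hx
  rcases hall x with ⟨q, hq, j, rfl⟩ | ⟨q₁, h₁, i, q₂, h₂, rfl⟩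
  · obtain ⟨a, b, h, e⟩ := C.Qr q hq
    rw [map_mul, e, C.φHz] at hx
    obtain ⟨rfl, rfl, hj⟩ := borel_inj hσ hx
    have hq1 : q = 1 := by
      apply C.Qinj q hq
      rw [e]
      exact qq_zero hσ
    rw [hq1, C.Hord j hj, one_mul]
  · obtain ⟨a₁, b₁, c₁, e₁⟩ := C.Qr q₁ h₁
    obtain ⟨a₂, b₂, c₂, e₂⟩ := C.Qr q₂ h₂
    rw [map_mul, map_mul, map_mul, e₁, e₂, C.φHz, C.φW] at hx
    exact absurd hx (big_ne_one hσ)

/-- Surjectivity. -/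
theorem phi_surj (hζ : ∀ u : Fˣ, ∃ k : ℤ, ζ ^ k = u) : Function.Surjective φ := by
  intro g
  rcases bruhat hσ g with ⟨a, b, hab, t, rfl⟩ | ⟨a₁, b₁, h₁, t, a₂, b₂, h₂, rfl⟩
  · obtain ⟨x, -, ex⟩ := C.Qs a b hab
    obtain ⟨j, rfl⟩ := hζ t
    exact ⟨x * H ^ j, by rw [map_mul, ex, C.φHz]⟩
  · obtain ⟨x₁, -, ex₁⟩ := C.Qs a₁ b₁ h₁
    obtain ⟨x₂, -, ex₂⟩ := C.Qs a₂ b₂ h₂
    obtain ⟨j, rfl⟩ := hζ t
    exact ⟨x₁ * W * H ^ j * x₂, by simp only [map_mul, ex₁, ex₂, C.φHz, C.φW]⟩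

end Ctx

end Cfsg.Agent.Lib.PresSU3
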