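import Cfsg.Agent.Lib.PresSU3.HatMain

/-!
# The common relators
-/

set_option autoImplicit false

namespace Cfsg.Agent.Lib.PresSU3

open Polynomial Cfsg Cfsg.Agent.Lib.PresSL2.Words
open scoped commutatorElement

/-- The free group on three letters. -/
abbrev XX := FreeGroup (Fin 3)

/-- The first letter. -/
def xu : XX := FreeGroup.of 0
/-- The second letter. -/
def xh : XX := FreeGroup.of 1
/-- The third letter. -/
def xw : XX := FreeGroup.of 2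

lemma map_vz {G G' : Type*} [Group G] [Group G'] (π : G →* G') (u h : G) (k : ℤ) :
    π (vz u h k) = vz (π u) (π h) k := by
  simp [vz]

lemma map_MM {G G' : Type*} [Group G] [Group G'] (π : G →* G') {u h x : G} (hx : x ∈ MM u h) :
    π x ∈ MM (π u) (π h) := by
  induction hx using Subgroup.closure_induction with
  | mem x hx =>
    obtain ⟨k, rfl⟩ := hx
    rw [map_vz]
    exact vz_mem _ _ _
  | one => rw [map_one]; exact one_mem _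
  | mul x y _ _ ihx ihy => rw [map_mul]; exact mul_mem ihx ihy
  | inv x _ ih => rw [map_inv]; exact inv_mem ih

section target

variable {F : Type*} [Field F] {σ : F →+* F} (hσ : ∀ x, σ (σ x) = x)

/-- The target map. -/
noncomputable def ltt (ζ : Fˣ) {b₀ : F} (h₀ : b₀ + σ b₀ + 1 * σ 1 = 0) : XX →* GG σ :=
  FreeGroup.lift ![qq hσ 1 b₀ h₀, tt hσ ζ, ww σ]

variable (ζ : Fˣ) {b₀ : F} (h₀ : b₀ + σ b₀ + 1 * σ 1 = 0)

@[simp] lemma ltt_u : ltt hσ ζ h₀ xu = qq hσ 1 b₀ h₀ := by simp [ltt, xu]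
@[simp] lemma ltt_h : ltt hσ ζ h₀ xh = tt hσ ζ := by simp [ltt, xh]
@[simp] lemma ltt_w : ltt hσ ζ h₀ xw = ww σ := by simp [ltt, xw]

/-- The relator of an arrow. -/
lemma exists_arrow (hlift : ∀ a b, ∀ h : b + σ b + a * σ a = 0, ∃ x ∈ MM xu xh, ltt hσ ζ h₀ x = qq hσ a b h)
    (hζ : ∀ u : Fˣ, ∃ k : ℤ, ζ ^ k = u) (a b : F) (h : b + σ b + a * σ a = 0) (hb : b ≠ 0) :
    ∃ r : XX, ltt hσ ζ h₀ r = 1 ∧ ∀ (Γ : Type) [Group Γ] (π : XX →* Γ) (φ : Γ →* GG σ)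
      (_ : ∀ x, φ (π x) = ltt hσ ζ h₀ x) (k₀ : ℤ)
      (_ : Ctx hσ ζ φ (MM (π xu) (π xh)) (π xh) (π xw) k₀), π r = 1 →
      Arw hσ φ (MM (π xu) (π xh)) (π xh) (π xw) a b := by
  obtain ⟨x, hx, ex⟩ := hlift a b h
  obtain ⟨q₁, hq₁, e₁⟩ := hlift _ _ (cstr_rho2 hσ hb h)
  obtain ⟨q₂, hq₂, e₂⟩ := hlift _ _ (cstr_rho1 hσ hb h)
  obtain ⟨j, hj⟩ := hζ (Units.mk0 b hb)
  refine ⟨xw * x * xw⁻¹ * (q₁ * xw * xh ^ j * q₂)⁻¹, ?_, ?_⟩
  · simp only [map_mul, map_inv, map_zpow, ltt_w, ltt_h, ex, e₁, e₂]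
    rw [moufang hσ hb h, tt_zpow, hj, mul_inv_cancel]
  · intro Γ _ π φ hφ k₀ C hr h' x' hx' ex'
    have e : x' = π x := by
      refine C.Qeq hx' (map_MM π hx) ?_
      rw [ex', hφ, ex]
    rw [e]
    have e2 : π xw * π x * (π xw)⁻¹ = π q₁ * π xw * (π xh) ^ j * π q₂ := by
      have := hr
      simp only [map_mul, map_inv, map_zpow] at this
      exact mul_inv_eq_one.1 this
    rw [e2]
    exact ⟨π q₁, map_MM π hq₁, j, π q₂, map_MM π hq₂, rfl⟩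

/-- The generation of the group. -/
lemma gen_of_surj {Γ : Type*} [Group Γ] (π : XX →* Γ) (hπ : Function.Surjective π) :
    Subgroup.closure (((MM (π xu) (π xh) : Subgroup Γ) : Set Γ) ∪ {π xh, π xw}) = ⊤ := by
  rw [eq_top_iff]
  rintro g -
  obtain ⟨x, rfl⟩ := hπ g
  have hx : x ∈ Subgroup.closure (Set.range (FreeGroup.of : Fin 3 → XX)) := by
    rw [FreeGroup.closure_range_of]
    trivial
  induction hx using Subgroup.closure_induction with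
  | mem x hx =>
    obtain ⟨i, rfl⟩ := hx
    apply Subgroup.subset_closure
    fin_cases i
    · left
      have := vz_mem (π xu) (π xh) 0
      simpa [vz, xu] using this
    · right
      left
      rfl
    · right
      right
      rfl
  | one => rw [map_one]; exact one_mem _
  | mul x y _ _ ihx ihy => rw [map_mul]; exact mul_mem ihx ihy
  | inv x _ ih => rw [map_inv]; exact inv_mem ih

variable {p : ℕ} [Fact p.Prime] [Algebra (ZMod p) F]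

lemma natCast_p : (p : F) = 0 := by
  have := map_natCast (algebraMap (ZMod p) F) p
  rw [ZMod.natCast_self, map_zero] at this
  exact this.symm

/-- The common relators. -/
theorem exists_common [Finite F] {K : Type*} [Field K] [Finite K] [Algebra (ZMod p) K] (ι : K →+* F)
    (hιr : ∀ x, σ x = x → ∃ c, ι c = x) {nK : K} (hιn : ι nK = ((nrH σ ζ : Fˣ) : F))
    (hζ : ∀ u : Fˣ, ∃ k : ℤ, ζ ^ k = u) {N : ℕ} (hN : orderOf ζ = N) {k₀ : ℤ}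
    (hk₀ : (Units.map (σ : F →* F) ζ)⁻¹ = ζ ^ k₀)
    (hnorm : ∀ x : F, σ x = x → x ≠ 0 → ∃ t : Fˣ, nrm σ (t : F) = x)
    {c₀ d₀ : F} (hc₀ : c₀ * σ c₀ = 1) (hc₀1 : c₀ ≠ 1) (hgenC : ∀ c, c * σ c = 1 → ∃ k : ℕ, c₀ ^ k = c)
    {y : XX} {hy0 : d₀ + σ d₀ + 0 * σ 0 = 0} (hyM : y ∈ MM xu xh) (hφy : ltt hσ ζ h₀ y = qq hσ 0 d₀ hy0)
    (hd₀ : d₀ ≠ 0)
    (hsν : Function.Surjective (aeval ((acH σ ζ : Fˣ) : F) : (ZMod p)[X] →ₐ[ZMod p] F))
    (hsn : Function.Surjective (aeval nK : (ZMod p)[X] →ₐ[ZMod p] K)) :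
    ∃ L : List XX, L.length = 11 ∧ (∀ r ∈ L, ltt hσ ζ h₀ r = 1) ∧
      ∀ (Γ : Type) [Group Γ] (π : XX →* Γ) (_ : Function.Surjective π) (φ : Γ →* GG σ)
        (_ : ∀ x, φ (π x) = ltt hσ ζ h₀ x), (∀ r ∈ L, π r = 1) →
        (π xh) ^ N = 1 ∧
        wordOf (vn (π xu) (π xh)) (minpoly (ZMod p) ((acH σ ζ : Fˣ) : F)) ∈ MM (π y) (π xh) ∧
        ((∀ k : ℤ, Commute (vz (π xu) (π xh) k) (π y)) →
          (∀ j k : ℤ, ⁅vz (π xu) (π xh) j, vz (π xu) (π xh) k⁆ ∈ MM (π y) (π xh)) →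
          Function.Bijective φ) := by
  have hsn' : ∀ c, σ c = c → ∃ f : (ZMod p)[X], aeval ((nrH σ ζ : Fˣ) : F) f = c := by
    intro c hc
    obtain ⟨c', rfl⟩ := hιr c hc
    obtain ⟨f, rfl⟩ := hsn c'
    exact ⟨f, by rw [iota_aeval, hιn]⟩
  have hlift := lift_Q hσ (ltt hσ ζ h₀) (U := xu) (H := xh) (ltt_u hσ ζ h₀) (ltt_h hσ ζ h₀) hφy hd₀ hyM hsν hsn'
  have hliftZ := lift_Z hσ (ltt hσ ζ h₀) (H := xh) hφy (ltt_h hσ ζ h₀) hd₀ hsn'
  -- the relators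
  set g := minpoly (ZMod p) ((acH σ ζ : Fˣ) : F) with hg
  have r1 : ltt hσ ζ h₀ (xh ^ N) = 1 := by
    rw [map_pow, ltt_h, tt_pow, ← hN, pow_orderOf_eq_one, tt_one]
  have r3 : ltt hσ ζ h₀ (y ^ p) = 1 := by
    rw [map_pow, hφy]
    obtain ⟨h', e⟩ := qq_pow_center hσ d₀ hy0 p
    rw [e, ← qq_zero hσ]
    exact qq_congr hσ _ rfl (by rw [natCast_p (F := F) (p := p), zero_mul])
  have r4 : ltt hσ ζ h₀ (wordOf (vn y xh) (minpoly (ZMod p) nK)) = 1 := by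
    obtain ⟨h', e⟩ := phi_word_center hσ (ltt hσ ζ h₀) hφy (ltt_h hσ ζ h₀) (minpoly (ZMod p) nK)
    rw [e, ← qq_zero hσ]
    refine qq_congr hσ _ rfl ?_
    rw [← hιn, ← iota_aeval, minpoly.aeval, map_zero, zero_mul]
  obtain ⟨z₈, hz₈, e₈⟩ : ∃ z ∈ MM y xh, ltt hσ ζ h₀ z = ltt hσ ζ h₀ (wordOf (vn xu xh) g) := by
    obtain ⟨b, h', e⟩ := phi_word_first hσ (ltt hσ ζ h₀) (ltt_u hσ ζ h₀) (ltt_h hσ ζ h₀) g
    have e0 : aeval ((acH σ ζ : Fˣ) : F) g = 0 := minpoly.aeval _ _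
    rw [qq_congr hσ h' e0 rfl] at e
    obtain ⟨z, hz, ez⟩ := hliftZ b (e0 ▸ h')
    exact ⟨z, hz, by rw [ez, e]⟩
  obtain ⟨z₉, hz₉, e₉⟩ : ∃ z ∈ MM y xh, ltt hσ ζ h₀ z = ltt hσ ζ h₀ (xu ^ p) := by
    obtain ⟨b, h', e⟩ := qq_pow_first hσ 1 b₀ h₀ p
    have e0 : (p : F) * 1 = 0 := by rw [natCast_p (F := F) (p := p), zero_mul]
    rw [qq_congr hσ h' e0 rfl] at e
    obtain ⟨z, hz, ez⟩ := hliftZ b (e0 ▸ h')
    exact ⟨z, hz, by rw [ez, map_pow, ltt_u, e]⟩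
  have r10 : ltt hσ ζ h₀ (xw * xw) = 1 := by
    rw [map_mul, ltt_w, ww_sq hσ]
  have r11 : ltt hσ ζ h₀ (xw * xh * xw⁻¹ * (xh ^ k₀)⁻¹) = 1 := by
    simp only [map_mul, map_inv, map_zpow, ltt_w, ltt_h]
    rw [ww_tt hσ, hk₀, tt_zpow, mul_inv_cancel]
  obtain ⟨a0, la0, Ha0⟩ := exists_arrow hσ ζ h₀ hlift hζ 0 d₀ hy0 hd₀
  have hA : ∀ i : ℕ, ∃ r : XX, ltt hσ ζ h₀ r = 1 ∧ ∀ (Γ : Type) [Group Γ] (π : XX →* Γ) (φ : Γ →* GG σ)
      (_ : ∀ x, φ (π x) = ltt hσ ζ h₀ x) (k₀ : ℤ)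
      (_ : Ctx hσ ζ φ (MM (π xu) (π xh)) (π xh) (π xw) k₀), π r = 1 →
      Arw hσ φ (MM (π xu) (π xh)) (π xh) (π xw) ((ζ ^ i : Fˣ) : F) (bb σ ((ζ ^ i : Fˣ) : F) c₀) := fun i =>
    exists_arrow hσ ζ h₀ hlift hζ _ _ (cstr_bb hσ _ hc₀ hc₀1) (bb_ne hσ _ (ζ ^ i).ne_zero hc₀1)
  obtain ⟨a1, la1, Ha1⟩ := hA 0
  obtain ⟨a2, la2, Ha2⟩ := hA 1
  obtain ⟨a3, la3, Ha3⟩ := hA 2
  refine ⟨[xh ^ N, y ^ p, wordOf (vn y xh) (minpoly (ZMod p) nK), wordOf (vn xu xh) g * z₈⁻¹, xu ^ p * z₉⁻¹,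
    xw * xw, xw * xh * xw⁻¹ * (xh ^ k₀)⁻¹, a0, a1, a2, a3], rfl, ?_, ?_⟩
  · intro r hr
    simp only [List.mem_cons, List.not_mem_nil, or_false] at hr
    rcases hr with rfl | rfl | rfl | rfl | rfl | rfl | rfl | rfl | rfl | rfl | rfl
    · exact r1
    · exact r3
    · exact r4
    · rw [map_mul, map_inv, e₈, mul_inv_cancel]
    · rw [map_mul, map_inv, e₉, mul_inv_cancel]
    · exact r10
    · exact r11
    · exact la0
    · exact la1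
    · exact la2
    · exact la3
  · intro Γ _ π hπ φ hφ hL
    have hR1 := hL (xh ^ N) (by simp)
    have hR3 := hL (y ^ p) (by simp)
    have hR4 := hL (wordOf (vn y xh) (minpoly (ZMod p) nK)) (by simp)
    have hR8 := hL (wordOf (vn xu xh) g * z₈⁻¹) (by simp)
    have hR9 := hL (xu ^ p * z₉⁻¹) (by simp)
    have hR10 := hL (xw * xw) (by simp)
    have hR11 := hL (xw * xh * xw⁻¹ * (xh ^ k₀)⁻¹) (by simp)
    have hRa0 := hL a0 (by simp)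
    have hRa1 := hL a1 (by simp)
    have hRa2 := hL a2 (by simp)
    have hRa3 := hL a3 (by simp)
    rw [map_pow] at hR1
    have hG : wordOf (vn (π xu) (π xh)) g ∈ MM (π y) (π xh) := by
      have e : π (wordOf (vn xu xh) g) = π z₈ := by
        rw [map_mul, map_inv] at hR8
        exact mul_inv_eq_one.1 hR8
      rw [map_wordOf] at e
      simp only [map_vn] at e
      rw [e]
      exact map_MM π hz₈
    refine ⟨hR1, hG, ?_⟩
    intro cent hab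
    have hUp : (π xu) ^ p ∈ MM (π y) (π xh) := by
      have e : π (xu ^ p) = π z₉ := by
        rw [map_mul, map_inv] at hR9
        exact mul_inv_eq_one.1 hR9
      rw [map_pow] at e
      rw [e]
      exact map_MM π hz₉
    have hord : ∀ j : ℤ, ζ ^ j = 1 → (π xh) ^ j = 1 := by
      intro j hj
      obtain ⟨l, rfl⟩ := (orderOf_dvd_iff_zpow_eq_one.2 hj : ((orderOf ζ : ℕ) : ℤ) ∣ j)
      rw [zpow_mul, hN, zpow_natCast, hR1, one_zpow]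
    have hWH : π xw * π xh * (π xw)⁻¹ = (π xh) ^ k₀ := by
      have := hR11
      simp only [map_mul, map_inv, map_zpow] at this
      exact mul_inv_eq_one.1 this
    have hφy' : φ (π y) = qq hσ 0 d₀ hy0 := by rw [hφ, hφy]
    have C : Ctx hσ ζ φ (MM (π xu) (π xh)) (π xh) (π xw) k₀ :=
      ctx_of_hat hσ ι hιr hιn φ (by rw [hφ, ltt_u]) (by rw [hφ, ltt_h]) (by rw [hφ, ltt_w]) hφy' hd₀
        (map_MM π hyM) cent (by rwa [map_pow] at hR3)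
        (by
          have e := hR4
          rw [map_wordOf] at e
          simp only [map_vn] at e
          exact e)
        hab hUp hG hsν hsn hord (by rwa [map_mul] at hR10) hWH
    have hZ := Ha0 Γ π φ hφ k₀ C hRa0
    have hAr : ∀ i : ℕ, i < 3 → Arw hσ φ (MM (π xu) (π xh)) (π xh) (π xw) ((ζ ^ i : Fˣ) : F)
        (bb σ ((ζ ^ i : Fˣ) : F) c₀) := by
      intro i hi
      interval_cases i
      · exact Ha1 Γ π φ hφ k₀ C hRa1
      · exact Ha2 Γ π φ hφ k₀ C hRa2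
      · exact Ha3 Γ π φ hφ k₀ C hRa3
    have hbig : ∀ x ∈ MM (π xu) (π xh), x ≠ 1 → π xw * x * (π xw)⁻¹ ∈ BW (MM (π xu) (π xh)) (π xh) (π xw) :=
      fun x hx hx1 => C.all_arrows hζ hnorm hc₀ hc₀1 hgenC hd₀ (sig_of_cstr hσ hy0) hZ hAr hx hx1
    exact ⟨C.phi_inj (gen_of_surj π hπ) hbig, C.phi_surj hζ⟩

end target

end Cfsg.Agent.Lib.PresSU3
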