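import Cfsg.Agent.Lib.PresSU3.Iso

/-!
# The presentations of `SU₃(q)`
-/

set_option autoImplicit false

namespace Cfsg.Agent.Lib.PresSU3

open Polynomial Cfsg Cfsg.Agent.Lib.HermCount.Field Cfsg.Agent.Lib.PresSL2.Words

variable {F : Type*} [Field F] [Fintype F] {q : ℕ} (hF : Fintype.card F = q ^ 2)

include hF

/-- The relators. -/
theorem su3_rels (h2 : q ≠ 2) (h5 : q ≠ 5) :
    ∃ (ζ : Fˣ) (b₀ : F) (h₀ : b₀ + frobHom hF b₀ + 1 * frobHom hF 1 = 0) (L : List XX), L.length ≤ 21 ∧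
      (∀ r ∈ L, ltt (hσ_frob hF) ζ h₀ r = 1) ∧
      ∀ (Γ : Type) [Group Γ] (π : XX →* Γ) (_ : Function.Surjective π) (φ : Γ →* GG (frobHom hF))
        (_ : ∀ x, φ (π x) = ltt (hσ_frob hF) ζ h₀ x), (∀ r ∈ L, π r = 1) → Function.Bijective φ := by
  classical
  obtain ⟨p, hp⟩ := CharP.exists F
  haveI : Fact p.Prime := ⟨CharP.char_is_prime F p⟩
  letI : Algebra (ZMod p) F := ZMod.algebra F p
  have hq2 := two_le hF
  have hq3 : 3 ≤ q := by omega
  set σ := frobHom hF with hσdef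
  have hσ := hσ_frob hF
  obtain ⟨ζ, hgen, hord⟩ := exists_gen_units hF
  have hζ : ∀ u : Fˣ, ∃ k : ℤ, ζ ^ k = u := by
    intro u
    obtain ⟨j, hj⟩ := hgen u
    exact ⟨j, by rw [zpow_natCast, hj]⟩
  let K : Subfield F := RingHom.eqLocusField σ (RingHom.id F)
  let ι : K →+* F := K.subtype
  haveI : CharP K p := RingHom.charP ι ι.injective p
  letI : Algebra (ZMod p) K := ZMod.algebra K p
  have hnK : ((nrH σ ζ : Fˣ) : F) ∈ K := by
    change σ _ = _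
    rw [nrH_val, sig_nrm hσ]
    rfl
  let nK : K := ⟨((nrH σ ζ : Fˣ) : F), hnK⟩
  have hιr : ∀ x, σ x = x → ∃ c, ι c = x := fun x hx => ⟨⟨x, hx⟩, rfl⟩
  have hιn : ι nK = ((nrH σ ζ : Fˣ) : F) := rfl
  have hk₀ : (Units.map (σ : F →* F) ζ)⁻¹ = ζ ^ (-(q : ℤ)) := by
    rw [unit_sig hF, zpow_neg, zpow_natCast]
  have hnorm : ∀ x : F, σ x = x → x ≠ 0 → ∃ t : Fˣ, nrm σ (t : F) = x := exists_nrm hF
  set c₀ : F := ((ζ ^ (q - 1) : Fˣ) : F) with hc₀def
  have hc₀ : c₀ * σ c₀ = 1 := c0_norm hF hord ζ hq2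
  have hc₀1 : c₀ ≠ 1 := by
    intro h
    apply c0_ne hF hord hq2
    apply Units.ext
    exact h
  have hgenC : ∀ c, c * σ c = 1 → ∃ k : ℕ, c₀ ^ k = c := gen_C hF hgen hord hq2
  have h₀ : bb σ 1 c₀ + σ (bb σ 1 c₀) + 1 * σ 1 = 0 := cstr_bb hσ 1 hc₀ hc₀1
  have hsν := surj_nu (p := p) hF hord hq3
  have hsn : Function.Surjective (aeval nK : (ZMod p)[X] →ₐ[ZMod p] K) := by
    intro c
    by_cases hc : c = 0
    · exact ⟨0, by rw [map_zero, hc]⟩
    · have hc' : (c : F) ≠ 0 := fun h => hc (Subtype.ext h)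
      obtain ⟨t, ht⟩ := hnorm c c.2 hc'
      obtain ⟨j, rfl⟩ := hgen t
      refine ⟨X ^ j, ?_⟩
      rw [map_pow, aeval_X]
      apply Subtype.ext
      rw [← ht]
      have : (((nK ^ j : K)) : F) = ((nK : K) : F) ^ j := rfl
      rw [this]
      change ((nrH σ ζ : Fˣ) : F) ^ j = _
      rw [← Units.val_pow_eq_pow_val, ← map_pow, nrH_val]
  refine ⟨ζ, bb σ 1 c₀, h₀, ?_⟩
  by_cases h8 : q = 8
  · subst h8
    obtain ⟨e, he, hfr⟩ := finrank_two (p := p) hF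
    have hpp : p.Prime := Fact.out
    have hp2 : p = 2 := by
      have h1 : p ∣ 2 ^ 3 := by
        have : p ∣ p ^ e := dvd_pow_self p (by
          rintro rfl
          simp at he)
        rw [← he] at this
        exact this
      exact (Nat.prime_dvd_prime_iff_eq hpp Nat.prime_two).1 (hpp.dvd_of_dvd_pow h1)
    have he3 : e = 3 := by
      rw [hp2] at he
      have h9 : 2 ^ e = 2 ^ 3 := by
        rw [← he]
        norm_num
      exact Nat.pow_right_injective (le_refl 2) h9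
    have hfr6 : Module.finrank (ZMod p) F = 6 := by
      rw [hfr, he3]
    have hdeg : (minpoly (ZMod p) ((acH σ ζ : Fˣ) : F)).natDegree ≤ 6 := by
      rw [← hfr6]
      exact minpoly.natDegree_le _
    have hm1 : nrm σ ((ζ ^ (7 : ℤ) : Fˣ) : F) = 1 := by
      have := c0_norm hF hord ζ hq2
      rw [nrm]
      have e7 : ((ζ ^ (7 : ℤ) : Fˣ) : F) = ((ζ ^ (8 - 1) : Fˣ) : F) := by
        congr 1
      rw [e7]
      exact this
    obtain ⟨L, hL, hLt, hLΓ⟩ := exists_small hσ ζ h₀ ι hιr hιn hζ rfl hk₀ hnorm hc₀ hc₀1 hgenC hm1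
      (ac_sig_ne hF hord hq3) hdeg hsν hsn
    exact ⟨L, by omega, hLt, hLΓ⟩
  · have hNpos : 0 < q ^ 2 - 1 := by
      have : 4 ≤ q ^ 2 := by nlinarith
      omega
    obtain ⟨s, hs⟩ := exists_trace hF 1 (one_pow q)
    have hT : ∃ e : F, e + σ e ≠ 0 := ⟨s, by
      change s + s ^ q ≠ 0
      rw [hs]
      exact one_ne_zero⟩
    have eA : (acH σ ζ) ^ (((q - 1 : ℕ)) : ℤ) = acH σ (ζ ^ (q - 1)) := by
      rw [zpow_natCast, map_pow]
    have hm1 : nrm σ ((ζ ^ (((q - 1 : ℕ)) : ℤ) : Fˣ) : F) = 1 := by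
      rw [zpow_natCast]
      exact hc₀
    have hd₀ : ((acH σ ζ ^ (((q - 1 : ℕ)) : ℤ) : Fˣ) : F) - σ ((acH σ ζ ^ (((q - 1 : ℕ)) : ℤ) : Fˣ) : F) ≠ 0 := by
      rw [eA, acH_pow_val hF hord hq2]
      exact r0_ne hF hord hq2 h2 h5
    obtain ⟨k, hk⟩ := exists_tri hF hgen hord hq2 h2 h5
    have htri : 1 + ((acH σ ζ ^ (((q - 1 : ℕ)) : ℤ) : Fˣ) : F) = ((acH σ ζ ^ k : Fˣ) : F) := by
      rw [eA, acH_pow_val hF hord hq2]
      exact hk
    have hsr : Function.Surjective (aeval ((acH σ (ζ ^ (((q - 1 : ℕ)) : ℤ)) : Fˣ) : F) : (ZMod p)[X] →ₐ[ZMod p] F) := by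
      rw [zpow_natCast]
      exact surj_r0 hF hord hq2 h2 h5 h8
    obtain ⟨L, hL, hLt, hLΓ⟩ := exists_general hσ ζ h₀ ι hιr hιn hζ hNpos hord hk₀ hnorm hc₀ hc₀1 hgenC hT hm1
      hd₀ htri hsr hsν hsn
    exact ⟨L, by omega, hLt, hLΓ⟩

/-- The presentation of the group with the form with a Witt basis. -/
theorem su3_pres (h2 : q ≠ 2) (h5 : q ≠ 5) :
    ∃ R : Finset XX, R.card ≤ 21 ∧ Nonempty (PresentedGroup (↑R : Set XX) ≃* GG (frobHom hF)) := by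
  classical
  obtain ⟨ζ, b₀, h₀, L, hL, hLt, hLΓ⟩ := su3_rels hF h2 h5
  refine ⟨L.toFinset, (List.toFinset_card_le L).trans hL, ?_⟩
  have hR : ∀ r ∈ (↑L.toFinset : Set XX), ltt (hσ_frob hF) ζ h₀ r = 1 := by
    intro r hr
    exact hLt r (by simpa using hr)
  let φ : PresentedGroup (↑L.toFinset : Set XX) →* GG (frobHom hF) := PresentedGroup.toGroup hR
  have hbij := hLΓ _ (PresentedGroup.mk (↑L.toFinset : Set XX)) (PresentedGroup.mk_surjective _) φ (fun x => rfl)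
    (fun r hr => PresentedGroup.one_of_mem (by simpa using hr))
  exact ⟨MulEquiv.ofBijective φ hbij⟩

end Cfsg.Agent.Lib.PresSU3
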