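import Cfsg.Agent.Lib.PresSU3.RelEight
import Cfsg.Agent.Lib.HermCount.Field
import Cfsg.Agent.Lib.PresSL2.FieldFacts

/-!
# The field facts
-/

set_option autoImplicit false

namespace Cfsg.Agent.Lib.PresSU3

open Polynomial Cfsg.Agent.Lib.HermCount.Field Cfsg.Agent.Lib.PresSL2.Words

section crit

variable {F : Type*} [Field F]  {p : ℕ} [Fact p.Prime] [Algebra (ZMod p) F]

/-- A criterion for `F_p[r] = F`, with divisibility. -/
lemma surj_of_not_subfield' [Finite F] (r : F)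
    (hr : ∀ d : ℕ, 1 ≤ d → d ∣ Module.finrank (ZMod p) F → 2 * d ≤ Module.finrank (ZMod p) F → r ^ (p ^ d) ≠ r) :
    Function.Surjective (aeval r : (ZMod p)[X] →ₐ[ZMod p] F) := by
  haveI : Module.Finite (ZMod p) F := Module.Finite.of_finite
  haveI := Fintype.ofFinite F
  set K := IntermediateField.adjoin (ZMod p) {r} with hK
  have hint : IsIntegral (ZMod p) r := Algebra.IsIntegral.isIntegral r
  have hrK : r ∈ K := IntermediateField.mem_adjoin_simple_self (ZMod p) r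
  set d := Module.finrank (ZMod p) K with hd
  haveI : Finite K := Finite.of_injective (fun x : K => (x : F)) Subtype.val_injective
  haveI := Fintype.ofFinite K
  have hcard : Fintype.card K = p ^ d := by
    rw [Module.card_eq_pow_finrank (K := ZMod p) (V := K), ZMod.card]
  have hpow : r ^ (p ^ d) = r := by
    have := FiniteField.pow_card (⟨r, hrK⟩ : K)
    rw [hcard] at this
    exact congrArg Subtype.val this
  have hd1 : 1 ≤ d := Module.finrank_pos
  have htower := Module.finrank_mul_finrank (ZMod p) K F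
  have hone : Module.finrank K F = 1 := by
    by_contra hne
    have hpos : 0 < Module.finrank K F := Module.finrank_pos
    have h2 : 2 ≤ Module.finrank K F := by omega
    refine hr d hd1 ⟨_, htower.symm⟩ ?_ hpow
    rw [← htower, mul_comm]
    exact Nat.mul_le_mul_left _ h2
  have htop : K = ⊤ := by
    have h1 : Module.finrank (ZMod p) K = Module.finrank (ZMod p) F := by
      rw [← htower, hone, mul_one]
    exact IntermediateField.eq_of_le_of_finrank_eq le_top (by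
      rw [IntermediateField.finrank_top', h1])
  intro x
  have hx : x ∈ K := by rw [htop]; trivial
  have hx' : x ∈ K.toSubalgebra := hx
  rw [hK, IntermediateField.adjoin_simple_toSubalgebra_of_isAlgebraic hint.isAlgebraic,
    Algebra.adjoin_singleton_eq_range_aeval] at hx'
  exact hx'

end crit

/-- Arithmetic: the degree cannot be small. -/
lemma arith_sr {p e d q : ℕ} (hp : 2 ≤ p) (hq : q = p ^ e) (hd1 : 1 ≤ d) (hd : d ∣ 2 * e) (hd2 : 2 * d ≤ 2 * e)
    (h2 : q ≠ 2) (h5 : q ≠ 5) (h8 : q ≠ 8) (hdiv : (q + 1) ∣ 3 * (p ^ d - 1)) : False := by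
  have hq2 : 2 ≤ q := by
    rw [hq]
    calc 2 ≤ p := hp
      _ = p ^ 1 := (pow_one p).symm
      _ ≤ p ^ e := Nat.pow_le_pow_right (by omega) (by omega)
  by_cases hde : d ∣ e
  · obtain ⟨s, rfl⟩ := hde
    have h1 : p ^ d - 1 ∣ q - 1 := by
      rw [hq]
      exact Nat.pow_sub_one_dvd_pow_sub_one p (Dvd.intro s rfl)
    have h3 : (q + 1) ∣ 3 * (q - 1) := hdiv.trans (Nat.mul_dvd_mul_left 3 h1)
    have h4 : (q + 1) ∣ 6 := by
      have h5 : (q + 1) ∣ 3 * (q + 1) := Dvd.intro_left _ rfl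
      have h6 : 3 * (q + 1) = 3 * (q - 1) + 6 := by omega
      rw [h6] at h5
      exact (Nat.dvd_add_right h3).1 h5
    have h7 : q + 1 ≤ 6 := Nat.le_of_dvd (by norm_num) h4
    have h8' : q ≤ 5 := by omega
    interval_cases q <;> omega
  · obtain ⟨s, hs⟩ := hd
    have hsodd : ¬ 2 ∣ s := by
      rintro ⟨s', rfl⟩
      apply hde
      exact ⟨s', by nlinarith⟩
    have hdeven : 2 ∣ d := by
      have : 2 ∣ d * s := ⟨e, hs.symm⟩
      rcases (Nat.Prime.dvd_mul Nat.prime_two).1 this with h | h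
      · exact h
      · exact absurd h hsodd
    obtain ⟨d', rfl⟩ := hdeven
    have hes : e = d' * s := by nlinarith
    have hs3 : 3 ≤ s := by
      by_contra hlt
      have : s = 1 := by
        have hs0 : s ≠ 0 := by
          rintro rfl
          exact hsodd (dvd_zero 2)
        have hs2 : s ≠ 2 := by
          rintro rfl
          exact hsodd (dvd_refl 2)
        omega
      subst this
      omega
    have hd'1 : 1 ≤ d' := by omega
    set P := p ^ d' with hP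
    have hP2 : 2 ≤ P := by
      calc 2 ≤ p := hp
        _ = p ^ 1 := (pow_one p).symm
        _ ≤ p ^ d' := Nat.pow_le_pow_right (by omega) hd'1
    have e1 : p ^ (2 * d') = P ^ 2 := by
      rw [hP, ← pow_mul, mul_comm]
    have e2 : q = P ^ s := by
      rw [hq, hes, hP, pow_mul]
    rw [e1] at hdiv
    have hP21 : 0 < 3 * (P ^ 2 - 1) := by
      have : 4 ≤ P ^ 2 := by nlinarith
      omega
    have hle := Nat.le_of_dvd hP21 hdiv
    have hP3 : P ^ 3 ≤ P ^ s := Nat.pow_le_pow_right (by omega) hs3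
    have hsq : P ^ 2 - 1 + 1 = P ^ 2 := Nat.sub_add_cancel (by nlinarith)
    have h4 : P ^ 3 + 4 ≤ 3 * P ^ 2 := by
      have : q ≥ P ^ 3 := by rw [e2]; exact hP3
      omega
    have hP2' : P = 2 := by
      by_contra hne
      have hP3' : 3 ≤ P := by omega
      have : P ^ 3 = P * P ^ 2 := by ring
      nlinarith [pow_pos (show 0 < P by omega) 2]
    rw [hP2'] at e2 hle
    have h9 : 2 ^ s ≤ 8 := by
      rw [e2] at hle
      omega
    have hs4 : s ≤ 3 := by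
      by_contra hc
      have : 2 ^ 4 ≤ 2 ^ s := Nat.pow_le_pow_right (by norm_num) (by omega)
      omega
    have hs5 : s = 3 := by omega
    rw [hs5] at e2
    omega

section main

variable {F : Type*} [Field F] [Fintype F] {q : ℕ} (hF : Fintype.card F = q ^ 2)

include hF

/-- The degree of the field over its prime field. -/
lemma finrank_two {p : ℕ} [Fact p.Prime] [Algebra (ZMod p) F] :
    ∃ e, q = p ^ e ∧ Module.finrank (ZMod p) F = 2 * e := by
  have hpp : p.Prime := Fact.out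
  have h1 : Fintype.card F = p ^ Module.finrank (ZMod p) F := by
    rw [Module.card_eq_pow_finrank (K := ZMod p) (V := F), ZMod.card]
  have h2 : q ∣ p ^ Module.finrank (ZMod p) F := by
    rw [← h1, hF]
    exact dvd_pow_self q two_ne_zero
  obtain ⟨e, -, rfl⟩ := (Nat.dvd_prime_pow hpp).1 h2
  refine ⟨e, rfl, ?_⟩
  rw [hF, ← pow_mul] at h1
  have := Nat.pow_right_injective hpp.two_le h1
  rw [← this]
  ring

lemma exists_gen_units : ∃ ζ : Fˣ, (∀ u : Fˣ, ∃ j : ℕ, ζ ^ j = u) ∧ orderOf ζ = q ^ 2 - 1 := by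
  obtain ⟨g, hg⟩ := IsCyclic.exists_generator (α := Fˣ)
  refine ⟨g, ?_, ?_⟩
  · intro u
    have h2 : u ∈ Submonoid.powers g := by
      rw [mem_powers_iff_mem_zpowers]
      exact hg u
    obtain ⟨j, hj⟩ := h2
    exact ⟨j, hj⟩
  · classical
    rw [orderOf_eq_card_of_forall_mem_zpowers hg, Nat.card_eq_fintype_card, Fintype.card_units, hF]

end main

section frob

variable {F : Type*} [Field F] [Fintype F] {q : ℕ} (hF : Fintype.card F = q ^ 2)

/-- The involution. -/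
lemma hσ_frob : ∀ x : F, frobHom hF (frobHom hF x) = x := frob_frob hF

lemma unit_sig (t : Fˣ) : Units.map ((frobHom hF : F →+* F) : F →* F) t = t ^ q := by
  apply Units.ext
  simp

include hF in
lemma unit_pow_q2 (t : Fˣ) : t ^ (q ^ 2 - 1) = 1 := by
  classical
  have := pow_card_eq_one (x := t)
  rwa [Fintype.card_units, hF] at this

lemma q_mul (hq : 2 ≤ q) : (q - 1) * (q + 1) = q ^ 2 - 1 := by
  obtain ⟨q', rfl⟩ : ∃ q', q = q' + 1 := ⟨q - 1, by omega⟩
  simp only [Nat.add_sub_cancel]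
  have : (q' + 1) ^ 2 = q' * (q' + 1 + 1) + 1 := by ring
  omega

lemma exists_nrm (x : F) (hx : frobHom hF x = x) (hx0 : x ≠ 0) : ∃ t : Fˣ, nrm (frobHom hF) (t : F) = x := by
  have h1 := card_norm_fiber hF x hx hx0
  have h2 : 0 < Nat.card {a : F // a ^ (q + 1) = x} := by
    rw [h1]
    omega
  obtain ⟨⟨a, ha⟩⟩ := (Nat.card_pos_iff.1 h2).1
  have ha0 : a ≠ 0 := by
    rintro rfl
    rw [zero_pow (by omega)] at ha
    exact hx0 ha.symm
  refine ⟨Units.mk0 a ha0, ?_⟩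
  rw [← ha]
  simp only [nrm, Units.val_mk0, frobHom_apply]
  ring

variable {ζ : Fˣ} (hgen : ∀ u : Fˣ, ∃ j : ℕ, ζ ^ j = u) (hord : orderOf ζ = q ^ 2 - 1)

include hord

lemma dvd_of_pow (j : ℕ) (h : ζ ^ j = 1) : (q ^ 2 - 1) ∣ j := by
  rw [← hord]
  exact orderOf_dvd_of_pow_eq_one h

include hF

lemma c0_norm (t : Fˣ) (hq : 2 ≤ q) : ((t ^ (q - 1) : Fˣ) : F) * frobHom hF ((t ^ (q - 1) : Fˣ) : F) = 1 := by
  have h1 : t ^ (q - 1) * (t ^ (q - 1)) ^ q = 1 := by
    rw [← pow_mul, ← pow_add, show q - 1 + (q - 1) * q = (q - 1) * (q + 1) by ring, q_mul hq]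
    exact unit_pow_q2 hF t
  have := congrArg Units.val h1
  simpa using this

lemma c0_ne (hq : 2 ≤ q) : ζ ^ (q - 1) ≠ 1 := by
  intro h
  have h1 := dvd_of_pow hord _ h
  have h2 := Nat.le_of_dvd (by omega) h1
  have h3 := q_mul hq
  have h4 : (q - 1) * 2 ≤ (q - 1) * (q + 1) := Nat.mul_le_mul_left _ (by omega)
  omega

include hgen

lemma gen_C (hq : 2 ≤ q) (c : F) (hc : c * frobHom hF c = 1) : ∃ k : ℕ, ((ζ ^ (q - 1) : Fˣ) : F) ^ k = c := by
  have hc0 : c ≠ 0 := by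
    rintro rfl
    simp at hc
  obtain ⟨j, hj⟩ := hgen (Units.mk0 c hc0)
  have hcj : c = ((ζ ^ j : Fˣ) : F) := by rw [hj]; rfl
  have h1 : ζ ^ (j * (q + 1)) = 1 := by
    apply Units.ext
    have e : ((ζ ^ (j * (q + 1)) : Fˣ) : F) = c * frobHom hF c := by
      rw [hcj]
      simp only [Units.val_pow_eq_pow_val, frobHom_apply]
      ring
    rw [e, hc]
    rfl
  have h2 := dvd_of_pow hord _ h1
  rw [← q_mul hq] at h2
  have h3 : (q - 1) ∣ j := Nat.dvd_of_mul_dvd_mul_right (by omega) h2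
  obtain ⟨i, rfl⟩ := h3
  refine ⟨i, ?_⟩
  rw [hcj]
  simp [pow_mul]

end frob

section frob2

variable {F : Type*} [Field F] [Fintype F] {q : ℕ} (hF : Fintype.card F = q ^ 2)
variable {ζ : Fˣ} (hgen : ∀ u : Fˣ, ∃ j : ℕ, ζ ^ j = u) (hord : orderOf ζ = q ^ 2 - 1)

include hF hord

lemma acH_pow_val (hq : 2 ≤ q) :
    (((acH (frobHom hF) (ζ ^ (q - 1)) : Fˣ)) : F) = ((ζ ^ (3 * (q - 1)) : Fˣ) : F) := by
  rw [acH_val, ac]
  have h1 := c0_norm hF hord ζ hq
  have h0 : ((ζ ^ (q - 1) : Fˣ) : F) ≠ 0 := (ζ ^ (q - 1)).ne_zero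
  have h2 : frobHom hF ((ζ ^ (q - 1) : Fˣ) : F) = ((ζ ^ (q - 1) : Fˣ) : F)⁻¹ := eq_inv_of_mul_eq_one_right h1
  rw [h2, mul_comm 3, pow_mul]
  rw [Units.val_pow_eq_pow_val (ζ ^ (q - 1)) 3]
  field_simp

/-- The element `r₀` is not fixed. -/
lemma r0_ne (hq : 2 ≤ q) (h2 : q ≠ 2) (h5 : q ≠ 5) :
    ((ζ ^ (3 * (q - 1)) : Fˣ) : F) - frobHom hF ((ζ ^ (3 * (q - 1)) : Fˣ) : F) ≠ 0 := by
  intro h
  have h1 : (ζ ^ (3 * (q - 1))) ^ q = ζ ^ (3 * (q - 1)) := by
    apply Units.ext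
    have : ((ζ ^ (3 * (q - 1)) : Fˣ) : F) = ((ζ ^ (3 * (q - 1)) : Fˣ) : F) ^ q := by
      have h3 := sub_eq_zero.1 h
      rwa [frobHom_apply] at h3
    rw [Units.val_pow_eq_pow_val, ← this]
  have h3 : ζ ^ (6 * (q - 1)) = 1 := by
    have e1 : (ζ ^ (3 * (q - 1))) ^ q * ζ ^ (3 * (q - 1)) = 1 := by
      rw [← pow_mul, ← pow_add]
      have e2 : 3 * (q - 1) * q + 3 * (q - 1) = (q - 1) * (q + 1) * 3 := by ring
      rw [e2, q_mul hq, pow_mul, unit_pow_q2 hF, one_pow]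
    rw [h1, ← pow_add] at e1
    convert e1 using 2
    ring
  have h4 := dvd_of_pow hord _ h3
  rw [← q_mul hq, mul_comm 6] at h4
  have h6 : (q + 1) ∣ 6 := Nat.dvd_of_mul_dvd_mul_left (by omega) h4
  have h7 : q + 1 ≤ 6 := Nat.le_of_dvd (by norm_num) h6
  have h8 : q ≤ 5 := by omega
  interval_cases q <;> omega

include hgen

/-- The trinomial relation. -/
lemma exists_tri (hq : 2 ≤ q) (h2 : q ≠ 2) (h5 : q ≠ 5) :
    ∃ k : ℤ, 1 + ((ζ ^ (3 * (q - 1)) : Fˣ) : F) = ((acH (frobHom hF) ζ ^ k : Fˣ) : F) := by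
  set z : F := (ζ : F) with hz
  set s : F := z ^ q with hs
  have hz0 : z ≠ 0 := ζ.ne_zero
  have hs0 : s ≠ 0 := pow_ne_zero _ hz0
  have hsz : frobHom hF z = s := rfl
  have hss : frobHom hF s = z := frob_frob hF z
  have ha : ((ζ ^ (3 * (q - 1)) : Fˣ) : F) = s ^ 3 / z ^ 3 := by
    have h1 : ((ζ ^ (q - 1) : Fˣ) : F) * z = s := by
      rw [Units.val_pow_eq_pow_val, ← hz, ← pow_succ, Nat.sub_add_cancel (by omega)]
    have h3 : ((ζ ^ (q - 1) : Fˣ) : F) = s / z := by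
      rw [← h1]
      field_simp
    rw [mul_comm 3, pow_mul, Units.val_pow_eq_pow_val (ζ ^ (q - 1)) 3, h3, div_pow]
  set T : F := z ^ 3 + s ^ 3 with hT
  have hT0 : T ≠ 0 := by
    intro h0
    apply r0_ne hF hord hq h2 h5
    rw [ha]
    simp only [map_div₀, map_pow, hsz, hss]
    have e : s ^ 3 = -z ^ 3 := by
      rw [hT] at h0
      linear_combination h0
    have h3 : z ^ 3 ≠ 0 := pow_ne_zero _ hz0
    rw [e]
    field_simp
    ring
  have hsT : frobHom hF T = T := by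
    rw [hT]
    simp only [map_add, map_pow, hsz, hss]
    ring
  have hne : T / (z * (z * s)) ≠ 0 := div_ne_zero hT0 (mul_ne_zero hz0 (mul_ne_zero hz0 hs0))
  obtain ⟨j, hj⟩ := hgen (Units.mk0 _ hne)
  refine ⟨j, ?_⟩
  rw [zpow_natCast, ← map_pow, acH_val, hj, ha, ac, Units.val_mk0]
  simp only [map_div₀, map_mul, hsz, hss, hsT]
  rw [hT]
  have h3 : z ^ 3 + s ^ 3 ≠ 0 := hT0
  field_simp

omit hgen

/-- The element generating the field: first case. -/
lemma pow_ac_ne (hq : 3 ≤ q) {D : ℕ} (hD : 1 ≤ D) (hD2 : D ≤ q - 1) : (acH (frobHom hF) ζ) ^ D ≠ 1 := by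
  intro h
  have hq2 : 2 ≤ q := by omega
  have e1 : acH (frobHom hF) ζ * ζ ^ (q - 2) = 1 := by
    have e : acH (frobHom hF) ζ = ζ ^ 2 * (ζ ^ q)⁻¹ := by
      simp only [acH, MonoidHom.coe_mk, OneHom.coe_mk, unit_sig]
    rw [e]
    have : ζ ^ q = ζ ^ (q - 2) * ζ ^ 2 := by
      rw [← pow_add]
      congr 1
      omega
    rw [this]
    group
  have e2 : (ζ ^ (q - 2)) ^ D = 1 := by
    have := congrArg (· ^ D) e1
    simp only [mul_pow, h, one_mul, one_pow] at this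
    exact this
  rw [← pow_mul] at e2
  have h1 := dvd_of_pow hord _ e2
  have h2 : (q ^ 2 - 1) ∣ (q + 2) * ((q - 2) * D) := h1.mul_left _
  have h3 : (q + 2) * ((q - 2) * D) + 3 * D = (q ^ 2 - 1) * D := by
    obtain ⟨q', rfl⟩ : ∃ q', q = q' + 2 := ⟨q - 2, by omega⟩
    simp only [Nat.add_sub_cancel]
    have : (q' + 2) ^ 2 - 1 = q' * (q' + 4) + 3 := by
      have : (q' + 2) ^ 2 = q' * (q' + 4) + 3 + 1 := by ring
      omega
    rw [this]
    ring
  have h4 : (q ^ 2 - 1) ∣ 3 * D := by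
    have h5 : (q ^ 2 - 1) ∣ (q ^ 2 - 1) * D := Dvd.intro _ rfl
    rw [← h3] at h5
    exact (Nat.dvd_add_right h2).1 h5
  have h5 := Nat.le_of_dvd (by omega) h4
  have h6 := q_mul hq2
  have h7 : (q - 1) * 3 < (q - 1) * (q + 1) := Nat.mul_lt_mul_of_pos_left (by omega) (by omega)
  have h8 : 3 * D ≤ (q - 1) * 3 := by omega
  omega

lemma ac_sig_ne (hq : 3 ≤ q) :
    ((acH (frobHom hF) ζ ^ (1 : ℤ) : Fˣ) : F) - frobHom hF ((acH (frobHom hF) ζ ^ (1 : ℤ) : Fˣ) : F) ≠ 0 := by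
  intro h
  rw [zpow_one] at h
  have h1 := sub_eq_zero.1 h
  rw [frobHom_apply] at h1
  apply pow_ac_ne hF hord hq (D := q - 1) (by omega) le_rfl
  apply Units.ext
  have h0 := (acH (frobHom hF) ζ).ne_zero
  have e : ((acH (frobHom hF) ζ : Fˣ) : F) ^ (q - 1) * ((acH (frobHom hF) ζ : Fˣ) : F) = 1 * ((acH (frobHom hF) ζ : Fˣ) : F) := by
    rw [← pow_succ, Nat.sub_add_cancel (by omega), ← h1, one_mul]
  have := mul_right_cancel₀ h0 e
  simpa using this

variable {p : ℕ} [Fact p.Prime] [Algebra (ZMod p) F]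

lemma surj_nu (hq : 3 ≤ q) :
    Function.Surjective (aeval ((acH (frobHom hF) ζ : Fˣ) : F) : (ZMod p)[X] →ₐ[ZMod p] F) := by
  obtain ⟨e, he, hfr⟩ := finrank_two (p := p) hF
  have hpp : p.Prime := Fact.out
  apply Cfsg.Agent.Lib.PresSL2.FieldFacts.surj_of_not_subfield
  intro d hd1 hd2 h
  have hpd : p ^ d ≤ q := by
    rw [he]
    exact Nat.pow_le_pow_right hpp.pos (by omega)
  have hpd2 : 2 ≤ p ^ d := by
    calc 2 ≤ p := hpp.two_le
      _ = p ^ 1 := (pow_one p).symm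
      _ ≤ p ^ d := Nat.pow_le_pow_right hpp.pos hd1
  apply pow_ac_ne hF hord hq (D := p ^ d - 1) (by omega) (by omega)
  apply Units.ext
  have h0 := (acH (frobHom hF) ζ).ne_zero
  have e2 : ((acH (frobHom hF) ζ : Fˣ) : F) ^ (p ^ d - 1) * ((acH (frobHom hF) ζ : Fˣ) : F) = 1 * ((acH (frobHom hF) ζ : Fˣ) : F) := by
    rw [← pow_succ, Nat.sub_add_cancel (by omega), h, one_mul]
  have := mul_right_cancel₀ h0 e2
  simpa using this

lemma surj_r0 (hq : 2 ≤ q) (h2 : q ≠ 2) (h5 : q ≠ 5) (h8 : q ≠ 8) :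
    Function.Surjective (aeval ((acH (frobHom hF) (ζ ^ (q - 1)) : Fˣ) : F) : (ZMod p)[X] →ₐ[ZMod p] F) := by
  obtain ⟨e, he, hfr⟩ := finrank_two (p := p) hF
  have hpp : p.Prime := Fact.out
  apply surj_of_not_subfield'
  rw [hfr]
  intro d hd1 hd2 hd3 h
  rw [acH_pow_val hF hord hq] at h
  have hpd2 : 2 ≤ p ^ d := by
    calc 2 ≤ p := hpp.two_le
      _ = p ^ 1 := (pow_one p).symm
      _ ≤ p ^ d := Nat.pow_le_pow_right hpp.pos hd1
  refine arith_sr hpp.two_le he hd1 hd2 hd3 h2 h5 h8 ?_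
  have h0 := (ζ ^ (3 * (q - 1))).ne_zero
  have e2 : ((ζ ^ (3 * (q - 1)) : Fˣ) : F) ^ (p ^ d - 1) * ((ζ ^ (3 * (q - 1)) : Fˣ) : F) = 1 * ((ζ ^ (3 * (q - 1)) : Fˣ) : F) := by
    rw [← pow_succ, Nat.sub_add_cancel (by omega), h, one_mul]
  have h3 := mul_right_cancel₀ h0 e2
  have h4 : ζ ^ ((q - 1) * (3 * (p ^ d - 1))) = 1 := by
    apply Units.ext
    have e3 : (q - 1) * (3 * (p ^ d - 1)) = (3 * (q - 1)) * (p ^ d - 1) := by ring
    rw [e3, pow_mul, Units.val_pow_eq_pow_val, h3]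
    rfl
  have h6 := dvd_of_pow hord _ h4
  rw [← q_mul hq] at h6
  exact Nat.dvd_of_mul_dvd_mul_left (by omega) h6

end frob2

end Cfsg.Agent.Lib.PresSU3
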