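import Cfsg.Agent.Lib.PresSU3.Core

/-!
# The relators making the conjugates commute
-/

set_option autoImplicit false

namespace Cfsg.Agent.Lib.PresSU3

open Polynomial Cfsg Cfsg.Agent.Lib.PresSL2.Words Cfsg.Agent.Lib.PresSL2.Comm
open scoped commutatorElement

section abs

variable {Γ : Type*} [Group Γ]

lemma vz_zpow (U H : Γ) (m k : ℤ) : vz U (H ^ m) k = vz U H (m * k) := by
  simp only [vz, zpow_mul, zpow_neg]

lemma comm_mem {U H : Γ} (j k : ℤ) : ⁅vz U H j, vz U H k⁆ ∈ MM U H := by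
  rw [commutatorElement_def]
  exact mul_mem (mul_mem (mul_mem (vz_mem _ _ _) (vz_mem _ _ _)) (inv_mem (vz_mem _ _ _))) (inv_mem (vz_mem _ _ _))

/-- Conjugation inside. -/
lemma general_A {U H : Γ} {m : ℤ} {N : ℕ} (hN : 0 < N) (hHN : H ^ N = 1) (h7 : H * U * H⁻¹ ∈ MM U (H ^ m)) (k : ℤ) :
    vz U H k ∈ MM U (H ^ m) := by
  have hcm : Commute H (H ^ m) := (Commute.refl H).zpow_right m
  have stable : ∀ x ∈ MM U (H ^ m), H * x * H⁻¹ ∈ MM U (H ^ m) := by
    intro x hx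
    induction hx using Subgroup.closure_induction with
    | mem x hx =>
      obtain ⟨l, rfl⟩ := hx
      have hcl : Commute H ((H ^ m) ^ l) := hcm.zpow_right l
      have := MM_zconj U (H ^ m) l h7
      convert this using 1
      rw [vz_eq]
      calc H * ((H ^ m) ^ l * U * ((H ^ m) ^ l)⁻¹) * H⁻¹
          = (H * (H ^ m) ^ l) * U * (H * (H ^ m) ^ l)⁻¹ := by group
        _ = ((H ^ m) ^ l * H) * U * ((H ^ m) ^ l * H)⁻¹ := by rw [hcl.eq]
        _ = _ := by group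
    | one => simp [one_mem]
    | mul x y _ _ ihx ihy =>
      have : H * (x * y) * H⁻¹ = (H * x * H⁻¹) * (H * y * H⁻¹) := by group
      rw [this]
      exact mul_mem ihx ihy
    | inv x _ ih =>
      have : H * x⁻¹ * H⁻¹ = (H * x * H⁻¹)⁻¹ := by group
      rw [this]
      exact inv_mem ih
  have hnat : ∀ n : ℕ, H ^ n * U * (H ^ n)⁻¹ ∈ MM U (H ^ m) := by
    intro n
    induction n with
    | zero =>
      have := vz_mem U (H ^ m) 0
      simpa [vz] using this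
    | succ n ih =>
      have := stable _ ih
      convert this using 1
      rw [pow_succ']
      group
  have e : H ^ k = H ^ (k % N) := by
    conv_lhs => rw [← Int.mul_ediv_add_emod k N, zpow_add, zpow_mul, zpow_natCast, hHN, one_zpow, one_mul]
  obtain ⟨t, ht⟩ := Int.eq_ofNat_of_zero_le (Int.emod_nonneg k (by omega : (N : ℤ) ≠ 0))
  rw [vz_eq, e, ht, zpow_natCast]
  exact hnat t

/-- The central commutation. -/
lemma general_cent {U H Y : Γ} {m : ℤ} (hA : ∀ k : ℤ, vz U H k ∈ MM U (H ^ m)) (h2 : Commute (H ^ m) Y)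
    (h5 : Commute U Y) (k : ℤ) : Commute (vz U H k) Y := by
  have key : ∀ x ∈ MM U (H ^ m), Commute x Y := by
    intro x hx
    induction hx using Subgroup.closure_induction with
    | mem x hx =>
      obtain ⟨l, rfl⟩ := hx
      have h3 := comm_conj' ((H ^ m) ^ l) h5
      have e : (H ^ m) ^ l * Y * ((H ^ m) ^ l)⁻¹ = Y := by
        rw [(h2.zpow_left l).eq, mul_inv_cancel_right]
      rw [e] at h3
      rwa [vz_eq]
    | one => exact Commute.one_left _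
    | mul x y _ _ ihx ihy => exact ihx.mul_left ihy
    | inv x _ ih => exact ih.inv_left
  exact key _ (hA k)

lemma comm_mod_aux (Z : Subgroup Γ) {S : Set Γ} (hS : ∀ x ∈ S, x ∈ Subgroup.normalizer (Z : Set Γ)) {a : Γ}
    (hc : ∀ x ∈ S, ⁅x, a⁆ ∈ Z) {x : Γ} (hx : x ∈ Subgroup.closure S) : ⁅x, a⁆ ∈ Z := by
  have hle : Subgroup.closure S ≤ Subgroup.normalizer (Z : Set Γ) := (Subgroup.closure_le _).2 hS
  induction hx using Subgroup.closure_induction with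
  | mem x hx => exact hc x hx
  | one => simp [commutatorElement_def, one_mem]
  | mul x y hx _ ihx ihy =>
    have e : ⁅x * y, a⁆ = (x * ⁅y, a⁆ * x⁻¹) * ⁅x, a⁆ := by
      simp only [commutatorElement_def]
      group
    rw [e]
    exact mul_mem ((Subgroup.mem_normalizer_iff.1 (hle hx) _).1 ihy) ihx
  | inv x hx ih =>
    have e : ⁅x⁻¹, a⁆ = x⁻¹ * ⁅x, a⁆⁻¹ * x⁻¹⁻¹ := by
      simp only [commutatorElement_def]
      group
    rw [e]
    exact (Subgroup.mem_normalizer_iff.1 (inv_mem (hle hx)) _).1 (inv_mem ih)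

/-- Commutators modulo a normalized subgroup. -/
lemma comm_mod (Z : Subgroup Γ) {S : Set Γ} (hS : ∀ x ∈ S, x ∈ Subgroup.normalizer (Z : Set Γ))
    (hc : ∀ a ∈ S, ∀ b ∈ S, ⁅a, b⁆ ∈ Z) {a b : Γ} (ha : a ∈ Subgroup.closure S) (hb : b ∈ Subgroup.closure S) :
    ⁅a, b⁆ ∈ Z := by
  refine comm_mod_aux Z hS (fun x hx => ?_) ha
  have h1 : ⁅b, x⁆ ∈ Z := comm_mod_aux Z hS (fun y hy => hc y hy x hx) hb
  have e : ⁅x, b⁆ = ⁅b, x⁆⁻¹ := (commutatorElement_inv b x).symm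
  rw [e]
  exact inv_mem h1

/-- Percolation modulo a normalized subgroup. -/
lemma perc_mod (Z : Subgroup Γ) {U H : Γ} (hU : U ∈ Subgroup.normalizer (Z : Set Γ))
    (hH : H ∈ Subgroup.normalizer (Z : Set Γ)) {m m' : ℤ} (ht : vz U H 0 * vz U H m * (vz U H m')⁻¹ ∈ Z)
    (hc : ⁅vz U H 0, vz U H m⁆ ∈ Z) (i j : ℤ) : ⁅vz U H 0, vz U H (i * m + j * m')⁆ ∈ Z := by
  set N := Subgroup.normalizer (Z : Set Γ) with hN
  haveI : (Z.subgroupOf N).Normal := Subgroup.normal_in_normalizer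
  let π : N →* N ⧸ Z.subgroupOf N := QuotientGroup.mk' _
  have hπ : ∀ x : N, π x = 1 ↔ x.1 ∈ Z := by
    intro x
    rw [QuotientGroup.mk'_apply, QuotientGroup.eq_one_iff, Subgroup.mem_subgroupOf]
  let u : N := ⟨U, hU⟩
  let h : N := ⟨H, hH⟩
  have hv : ∀ k : ℤ, ((vz u h k : N) : Γ) = vz U H k := by
    intro k
    simp [vz, u, h]
  have e : ∀ i : ℤ, vz (π u) (π h) i = π (vz u h i) := by
    intro i
    simp [vz]
  have hcc : ∀ j k : ℤ, ((⁅vz u h j, vz u h k⁆ : N) : Γ) = ⁅vz U H j, vz U H k⁆ := by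
    intro j k
    simp only [commutatorElement_def, Subgroup.coe_mul, Subgroup.coe_inv, hv]
  have ht' : vz (π u) (π h) 0 * vz (π u) (π h) m = vz (π u) (π h) m' := by
    simp only [e]
    have h1 : π (vz u h 0 * vz u h m * (vz u h m')⁻¹) = 1 := by
      rw [hπ]
      simpa [hv] using ht
    rw [map_mul, map_inv, mul_inv_eq_one, map_mul] at h1
    exact h1
  have hc' : Commute (vz (π u) (π h) 0) (vz (π u) (π h) m) := by
    rw [e, e]
    apply commutatorElement_eq_one_iff_commute.1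
    rw [← map_commutatorElement, hπ, hcc]
    exact hc
  have h3 := comm_of_perc ht' hc' i j
  unfold PP at h3
  rw [e, e] at h3
  have h4 := commutatorElement_eq_one_iff_commute.2 h3
  rw [← map_commutatorElement, hπ, hcc] at h4
  exact h4

/-- The commutators between shifted conjugates. -/
lemma comm_shift_mod (Z : Subgroup Γ) {U H : Γ} (hH : H ∈ Subgroup.normalizer (Z : Set Γ)) {k : ℤ}
    (h0 : ⁅vz U H 0, vz U H k⁆ ∈ Z) (j : ℤ) : ⁅vz U H j, vz U H (j + k)⁆ ∈ Z := by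
  have hz : H ^ j ∈ Subgroup.normalizer (Z : Set Γ) := zpow_mem hH j
  have h1 := (Subgroup.mem_normalizer_iff.1 hz _).1 h0
  convert h1 using 1
  have e1 := vz_shift U H j 0
  have e2 := vz_shift U H j k
  rw [zero_add] at e1
  rw [add_comm j k, ← e1, ← e2]
  simp only [commutatorElement_def, zpow_neg]
  group

/-- The commutators of all conjugates, modulo a subgroup. -/
lemma general_hab (Z : Subgroup Γ) {U H : Γ} {m m' : ℤ} (hU : U ∈ Subgroup.normalizer (Z : Set Γ))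
    (hH : H ∈ Subgroup.normalizer (Z : Set Γ)) (hA : ∀ k : ℤ, vz U H k ∈ MM U (H ^ m))
    (ht : U * vz U H m * (vz U H m')⁻¹ ∈ Z) (hc : ⁅U, vz U H m⁆ ∈ Z) (j k : ℤ) :
    ⁅vz U H j, vz U H k⁆ ∈ Z := by
  have h00 : vz U H 0 = U := by simp [vz]
  have hP := perc_mod Z hU hH (m := m) (m' := m') (by rwa [h00]) (by rwa [h00])
  refine comm_mod Z (S := Set.range (vz U (H ^ m))) ?_ ?_ (hA j) (hA k)
  · rintro _ ⟨l, rfl⟩
    rw [vz_eq]
    have hz : (H ^ m) ^ l ∈ Subgroup.normalizer (Z : Set Γ) := zpow_mem (zpow_mem hH m) l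
    exact mul_mem (mul_mem hz hU) (inv_mem hz)
  · rintro _ ⟨a, rfl⟩ _ ⟨b, rfl⟩
    have h1 := comm_shift_mod Z hH (k := (b - a) * m) (by simpa using hP (b - a) 0) (m * a)
    rw [vz_zpow, vz_zpow]
    convert h1 using 3
    ring

end abs

section target

variable {F : Type*} [Field F] {σ : F →+* F} (hσ : ∀ x, σ (σ x) = x)

include hσ

lemma qq_comm {a b c d : F} (h : b + σ b + a * σ a = 0) (h' : d + σ d + c * σ c = 0) :
    ∃ h'' : (c * σ a - a * σ c) + σ (c * σ a - a * σ c) + 0 * σ 0 = 0,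
      ⁅qq hσ a b h, qq hσ c d h'⁆ = qq hσ 0 (c * σ a - a * σ c) h'' := by
  have h'' : (c * σ a - a * σ c) + σ (c * σ a - a * σ c) + 0 * σ 0 = 0 := by
    simp only [map_sub, map_mul, hσ]
    ring
  refine ⟨h'', ?_⟩
  rw [commutatorElement_def, mul_inv_eq_iff_eq_mul, mul_inv_eq_iff_eq_mul, qq_mul, qq_mul, qq_mul]
  refine qq_congr hσ _ (by ring) ?_
  ring

variable (ζ : Fˣ) {b₀ : F} (h₀ : b₀ + σ b₀ + 1 * σ 1 = 0)

lemma ltt_vz (k : ℤ) :
    ltt hσ ζ h₀ (vz xu xh k) = qq hσ (((acH σ ζ ^ k : Fˣ) : F) * 1) (((nrH σ ζ ^ k : Fˣ) : F) * b₀) (by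
        rw [← map_zpow, ← map_zpow, acH_val, nrH_val]
        exact cstr_tt hσ (ζ ^ k).ne_zero h₀) := by
  rw [map_vz, ltt_u, ltt_h, conj_target]

lemma ltt_comm (m : ℤ) :
    ∃ h : (((acH σ ζ ^ m : Fˣ) : F) - σ ((acH σ ζ ^ m : Fˣ) : F)) + σ (((acH σ ζ ^ m : Fˣ) : F) - σ ((acH σ ζ ^ m : Fˣ) : F)) + 0 * σ 0 = 0,
      ltt hσ ζ h₀ ⁅xu, vz xu xh m⁆ = qq hσ 0 (((acH σ ζ ^ m : Fˣ) : F) - σ ((acH σ ζ ^ m : Fˣ) : F)) h := by
  rw [map_commutatorElement, ltt_u, ltt_vz]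
  obtain ⟨h'', e⟩ := qq_comm hσ h₀ (c := ((acH σ ζ ^ m : Fˣ) : F) * 1) (d := ((nrH σ ζ ^ m : Fˣ) : F) * b₀) (by
        rw [← map_zpow, ← map_zpow, acH_val, nrH_val]
        exact cstr_tt hσ (ζ ^ m).ne_zero h₀)
  rw [e]
  have e1 : ((acH σ ζ ^ m : Fˣ) : F) * 1 * σ 1 - 1 * σ (((acH σ ζ ^ m : Fˣ) : F) * 1) =
      ((acH σ ζ ^ m : Fˣ) : F) - σ ((acH σ ζ ^ m : Fˣ) : F) := by simp
  exact ⟨e1 ▸ h'', qq_congr hσ _ rfl e1⟩

/-- Elements of the unipotent subgroup generated by one orbit. -/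
lemma lift_A {Γ : Type*} [Group Γ] (φ : Γ →* GG σ) {U H : Γ} {ζ' : Fˣ} {p : ℕ} [Fact p.Prime] [Algebra (ZMod p) F]
    (hφU : φ U = qq hσ 1 b₀ h₀) (hφH : φ H = tt hσ ζ')
    (hs : Function.Surjective (aeval ((acH σ ζ' : Fˣ) : F) : (ZMod p)[X] →ₐ[ZMod p] F))
    (hT : ∃ e : F, e + σ e ≠ 0) (a b : F) (h : b + σ b + a * σ a = 0) :
    ∃ x ∈ MM U H, φ x = qq hσ a b h := by
  obtain ⟨f, rfl⟩ := hs a
  obtain ⟨b₁, h₁, e₁⟩ := phi_word_first hσ φ hφU hφH f
  set d := b - b₁ with hd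
  have hsd : σ d = -d := by
    rw [hd, map_sub]
    linear_combination h - h₁
  obtain ⟨e, he⟩ := hT
  set T := e + σ e with hTe
  have hsT : σ T = T := by
    rw [hTe, map_add, hσ]
    ring
  set a' := d * e / T with ha'
  have hsa' : a' - σ a' = d := by
    rw [ha', map_div₀, map_mul, hsd, hsT]
    field_simp
    rw [hTe]
    ring
  obtain ⟨f', hf'⟩ := hs a'
  obtain ⟨b₂, h₂, e₂⟩ := phi_word_first hσ φ hφU hφH f'
  have hU : U ∈ MM U H := by
    have := vz_mem U H 0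
    simpa [vz] using this
  have hw : wordOf (vn U H) f ∈ MM U H := wordOf_mem (vn_mem U H) f
  have hw' : wordOf (vn U H) f' ∈ MM U H := wordOf_mem (vn_mem U H) f'
  refine ⟨wordOf (vn U H) f * ⁅U, wordOf (vn U H) f'⁆, mul_mem hw ?_, ?_⟩
  · rw [commutatorElement_def]
    exact mul_mem (mul_mem (mul_mem hU hw') (inv_mem hU)) (inv_mem hw')
  · rw [map_mul, map_commutatorElement, hφU, e₁, e₂]
    obtain ⟨h'', e⟩ := qq_comm hσ h₀ h₂
    have e3 : aeval ((acH σ ζ' : Fˣ) : F) f' * σ 1 - 1 * σ (aeval ((acH σ ζ' : Fˣ) : F) f') = d := by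
      rw [hf', map_one, mul_one, one_mul]
      exact hsa'
    rw [e, qq_mul]
    refine qq_congr hσ _ (add_zero _) ?_
    rw [e3, map_zero, mul_zero, sub_zero, hd]
    ring

end target

end Cfsg.Agent.Lib.PresSU3
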