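import Cfsg.Agent.Lib.PresSU3.Abs
import Cfsg.Agent.Lib.PresSL2.OddCore

/-!
# The unipotent subgroup from relators
-/

set_option autoImplicit false

namespace Cfsg.Agent.Lib.PresSU3

open Polynomial Cfsg Cfsg.Agent.Lib.PresSL2.Words

variable {F : Type*} [Field F] {σ : F →+* F}

/-- The action on the first coordinate, as a homomorphism. -/
noncomputable def acH (σ : F →+* F) : Fˣ →* Fˣ where
  toFun t := t ^ 2 * (Units.map (σ : F →* F) t)⁻¹
  map_one' := by simp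
  map_mul' s t := by
    simp only [mul_pow, map_mul, _root_.mul_inv_rev]
    rw [mul_comm (Units.map (σ : F →* F) t)⁻¹]
    ac_rfl

/-- The norm, as a homomorphism. -/
noncomputable def nrH (σ : F →+* F) : Fˣ →* Fˣ where
  toFun t := t * Units.map (σ : F →* F) t
  map_one' := by simp
  map_mul' s t := by
    simp only [map_mul]
    ac_rfl

lemma acH_val (t : Fˣ) : ((acH σ t : Fˣ) : F) = ac σ (t : F) := by
  simp only [acH, ac, MonoidHom.mk'_apply, MonoidHom.coe_mk, OneHom.coe_mk, Units.val_mul, Units.val_pow_eq_pow_val,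
    Units.val_inv_eq_inv_val, Units.coe_map, RingHom.coe_monoidHom_mk, div_eq_mul_inv]
  rfl

lemma nrH_val (t : Fˣ) : ((nrH σ t : Fˣ) : F) = nrm σ (t : F) := by
  simp only [nrH, nrm, MonoidHom.coe_mk, OneHom.coe_mk, Units.val_mul, Units.coe_map]
  rfl

variable (hσ : ∀ x, σ (σ x) = x)
include hσ

/-- The conjugates in the target. -/
lemma conj_target (ζ : Fˣ) (k : ℤ) {a b : F} (h : b + σ b + a * σ a = 0) :
    vz (qq hσ a b h) (tt hσ ζ) k = qq hσ (((acH σ ζ ^ k : Fˣ) : F) * a) (((nrH σ ζ ^ k : Fˣ) : F) * b)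
      (by
        rw [← map_zpow, ← map_zpow, acH_val, nrH_val]
        exact cstr_tt hσ (ζ ^ k).ne_zero h) := by
  rw [vz, tt_zpow, zpow_neg, tt_zpow, tt_qq]
  exact qq_congr hσ _ (by rw [← map_zpow, acH_val]) (by rw [← map_zpow, nrH_val])

lemma conj_target_n (ζ : Fˣ) (k : ℕ) {a b : F} (h : b + σ b + a * σ a = 0) :
    vn (qq hσ a b h) (tt hσ ζ) k = qq hσ (((acH σ ζ ^ k : Fˣ) : F) * a) (((nrH σ ζ ^ k : Fˣ) : F) * b)
      (by
        rw [← map_pow, ← map_pow, acH_val, nrH_val]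
        exact cstr_tt hσ (ζ ^ k).ne_zero h) := by
  have := conj_target hσ ζ (k : ℤ) h
  rw [vz_natCast] at this
  rw [this]
  exact qq_congr hσ _ (by rw [zpow_natCast]) (by rw [zpow_natCast])

lemma qq_mul_eq {a b c d a' b' : F} (h : b + σ b + a * σ a = 0) (h' : d + σ d + c * σ c = 0) (ha : a + c = a')
    (hb : b + d - a * σ c = b') :
    ∃ h'' : b' + σ b' + a' * σ a' = 0, qq hσ a b h * qq hσ c d h' = qq hσ a' b' h'' := by
  subst ha hb
  exact ⟨_, qq_mul hσ h h'⟩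

lemma qq_pow_first (a b : F) (h : b + σ b + a * σ a = 0) (m : ℕ) :
    ∃ b', ∃ h' : b' + σ b' + ((m : F) * a) * σ ((m : F) * a) = 0, qq hσ a b h ^ m = qq hσ ((m : F) * a) b' h' := by
  induction m with
  | zero =>
    refine ⟨0, by simp, ?_⟩
    simp only [pow_zero, Nat.cast_zero, zero_mul]
    exact (qq_zero hσ).symm
  | succ m ih =>
    obtain ⟨b', h', e⟩ := ih
    have e1 : (m : F) * a + a = ((m + 1 : ℕ) : F) * a := by
      push_cast
      ring
    obtain ⟨h'', e2⟩ := qq_mul_eq hσ h' h e1 rfl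
    rw [pow_succ, e, e2]
    exact ⟨_, _, rfl⟩

lemma qq_pow_center (d : F) (h : d + σ d + 0 * σ 0 = 0) (m : ℕ) :
    ∃ h' : (m : F) * d + σ ((m : F) * d) + 0 * σ 0 = 0, qq hσ 0 d h ^ m = qq hσ 0 ((m : F) * d) h' := by
  induction m with
  | zero =>
    refine ⟨by simp, ?_⟩
    simp only [pow_zero, Nat.cast_zero, zero_mul]
    exact (qq_zero hσ).symm
  | succ m ih =>
    obtain ⟨h', e⟩ := ih
    have e1 : (0 : F) + 0 = 0 := add_zero 0
    have e2 : (m : F) * d + d - 0 * σ 0 = ((m + 1 : ℕ) : F) * d := by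
      push_cast
      ring
    obtain ⟨h'', e3⟩ := qq_mul_eq hσ h' h e1 e2
    rw [pow_succ, e, e3]
    exact ⟨_, rfl⟩

variable {p : ℕ} [Fact p.Prime] [Algebra (ZMod p) F]

lemma prodL_first {v : ℕ → GG σ} {r : F}
    (hv : ∀ k, ∃ b, ∃ h : b + σ b + (r ^ k) * σ (r ^ k) = 0, v k = qq hσ (r ^ k) b h)
    (f : (ZMod p)[X]) (m : ℕ) :
    ∃ b, ∃ h : b + σ b + (∑ i ∈ Finset.range m, f.coeff i • r ^ i) * σ (∑ i ∈ Finset.range m, f.coeff i • r ^ i) = 0,
      prodL v f m = qq hσ (∑ i ∈ Finset.range m, f.coeff i • r ^ i) b h := by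
  induction m with
  | zero =>
    refine ⟨0, by simp, ?_⟩
    simp only [prodL, List.range_zero, List.map_nil, List.prod_nil, Finset.range_zero, Finset.sum_empty]
    exact (qq_zero hσ).symm
  | succ m ih =>
    obtain ⟨b, h, e⟩ := ih
    obtain ⟨b₁, h₁, e₁⟩ := hv m
    obtain ⟨b₂, h₂, e₂⟩ := qq_pow_first hσ _ b₁ h₁ (f.coeff m).val
    have e3 : (∑ i ∈ Finset.range m, f.coeff i • r ^ i) + ((f.coeff m).val : F) * r ^ m =
        ∑ i ∈ Finset.range (m + 1), f.coeff i • r ^ i := by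
      rw [Finset.sum_range_succ, Cfsg.Agent.Lib.PresSL2.OddCore.natCast_eq_algebraMap, Algebra.smul_def]
    obtain ⟨h'', e4⟩ := qq_mul_eq hσ h h₂ e3 rfl
    rw [prodL_succ, e, e₁, e₂, e4]
    exact ⟨_, _, rfl⟩

lemma prodL_center {v : ℕ → GG σ} {r d : F}
    (hv : ∀ k, ∃ h : r ^ k * d + σ (r ^ k * d) + 0 * σ 0 = 0, v k = qq hσ 0 (r ^ k * d) h)
    (f : (ZMod p)[X]) (m : ℕ) :
    ∃ h : (∑ i ∈ Finset.range m, f.coeff i • r ^ i) * d + σ ((∑ i ∈ Finset.range m, f.coeff i • r ^ i) * d) + 0 * σ 0 = 0,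
      prodL v f m = qq hσ 0 ((∑ i ∈ Finset.range m, f.coeff i • r ^ i) * d) h := by
  induction m with
  | zero =>
    refine ⟨by simp, ?_⟩
    simp only [prodL, List.range_zero, List.map_nil, List.prod_nil, Finset.range_zero, Finset.sum_empty, zero_mul]
    exact (qq_zero hσ).symm
  | succ m ih =>
    obtain ⟨h, e⟩ := ih
    obtain ⟨h₁, e₁⟩ := hv m
    obtain ⟨h₂, e₂⟩ := qq_pow_center hσ _ h₁ (f.coeff m).val
    have e1 : (0 : F) + 0 = 0 := add_zero 0
    have e3 : (∑ i ∈ Finset.range m, f.coeff i • r ^ i) * d + ((f.coeff m).val : F) * (r ^ m * d) - 0 * σ 0 =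
        (∑ i ∈ Finset.range (m + 1), f.coeff i • r ^ i) * d := by
      rw [Finset.sum_range_succ, Cfsg.Agent.Lib.PresSL2.OddCore.natCast_eq_algebraMap, Algebra.smul_def]
      ring
    obtain ⟨h'', e4⟩ := qq_mul_eq hσ h h₂ e1 e3
    rw [prodL_succ, e, e₁, e₂, e4]
    exact ⟨_, rfl⟩

end Cfsg.Agent.Lib.PresSU3
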