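import Cfsg.Agent.Lib.PresSL2.OddCore

/-!
# Additive maps from a field, modulo a subgroup
-/

set_option autoImplicit false

namespace Cfsg.Agent.Lib.PresSU3

open Polynomial Cfsg.Agent.Lib.PresSL2.Words
open scoped commutatorElement

section basic

variable {Γ : Type*} [Group Γ]

lemma comm_conj' (S : Γ) {x y : Γ} (h : Commute x y) : Commute (S * x * S⁻¹) (S * y * S⁻¹) := by
  change _ = _
  calc S * x * S⁻¹ * (S * y * S⁻¹) = S * (x * y) * S⁻¹ := by group
    _ = S * (y * x) * S⁻¹ := by rw [h.eq]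
    _ = _ := by group

lemma vz_eq (u h : Γ) (k : ℤ) : vz u h k = h ^ k * u * (h ^ k)⁻¹ := by
  simp [vz]

/-- The subgroup is stable under integer powers. -/
lemma MM_zconj (u h : Γ) (k : ℤ) {x : Γ} (hx : x ∈ MM u h) : h ^ k * x * (h ^ k)⁻¹ ∈ MM u h := by
  induction hx using Subgroup.closure_induction with
  | mem x hx =>
    obtain ⟨j, rfl⟩ := hx
    have := Cfsg.Agent.Lib.PresSL2.Comm.vz_shift u h k j
    rw [zpow_neg] at this
    rw [this]
    exact vz_mem u h _
  | one => simp [Subgroup.one_mem]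
  | mul x y _ _ ihx ihy =>
    have : h ^ k * (x * y) * (h ^ k)⁻¹ = (h ^ k * x * (h ^ k)⁻¹) * (h ^ k * y * (h ^ k)⁻¹) := by group
    rw [this]
    exact Subgroup.mul_mem _ ihx ihy
  | inv x _ ih =>
    have : h ^ k * x⁻¹ * (h ^ k)⁻¹ = (h ^ k * x * (h ^ k)⁻¹)⁻¹ := by group
    rw [this]
    exact Subgroup.inv_mem _ ih

lemma MM_inv_conj (u h : Γ) {x : Γ} (hx : x ∈ MM u h) : h⁻¹ * x * h ∈ MM u h := by
  have := MM_zconj u h (-1) hx
  simpa using this

lemma MM_conj (u h : Γ) {x : Γ} (hx : x ∈ MM u h) : h * x * h⁻¹ ∈ MM u h := by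
  have := MM_zconj u h 1 hx
  simpa using this

/-- A conjugation-stable subgroup contains the whole `MM` if it contains `u`. -/
lemma MM_le {u h : Γ} {K : Subgroup Γ} (hu : u ∈ K) (hh : ∀ k : ℤ, ∀ x ∈ K, h ^ k * x * (h ^ k)⁻¹ ∈ K) :
    MM u h ≤ K := by
  rw [MM, Subgroup.closure_le]
  rintro _ ⟨k, rfl⟩
  rw [vz_eq]
  exact hh k u hu

/-- The additive map is equivariant for integer powers. -/
lemma W_zpow {F : Type*} [Field F] {W : F → Γ} {r : F} {h : Γ} (hr0 : r ≠ 0)
    (hW : ∀ x, W (r * x) = h * W x * h⁻¹) (k : ℤ) (x : F) : W (r ^ k * x) = h ^ k * W x * (h ^ k)⁻¹ := by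
  have hinv : ∀ x, W (r⁻¹ * x) = h⁻¹ * W x * h := by
    intro x
    have := hW (r⁻¹ * x)
    rw [← mul_assoc, mul_inv_cancel₀ hr0, one_mul] at this
    rw [this]
    group
  induction k using Int.induction_on generalizing x with
  | zero => simp
  | succ n ih =>
    rw [zpow_add_one₀ hr0, mul_comm (r ^ (n : ℤ)) r, mul_assoc, hW, ih, zpow_add_one]
    have : h ^ (n : ℤ) * h = h * h ^ (n : ℤ) := (Commute.zpow_left (Commute.refl h) _).eq
    rw [this]
    group
  | pred n ih =>
    rw [zpow_sub_one₀ hr0, mul_comm _ r⁻¹, mul_assoc, hinv, ih, zpow_sub_one]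
    have : h ^ (-(n : ℤ)) * h⁻¹ = h⁻¹ * h ^ (-(n : ℤ)) :=
      (Commute.zpow_left (Commute.refl h).inv_right _).eq
    rw [this]
    group

end basic

variable {F : Type*} [Field F] {p : ℕ} [Fact p.Prime] [Algebra (ZMod p) F]

lemma wordOf_one {Γ : Type*} [Group Γ] (v : ℕ → Γ) : wordOf v (1 : (ZMod p)[X]) = v 0 := by
  haveI : Fact (1 < p) := ⟨(Fact.out : p.Prime).one_lt⟩
  simp [wordOf, prodL_succ, prodL, ZMod.val_one]

/-- The additive map exists modulo a subgroup. -/
theorem quot_word [Finite F] {Γ : Type*} [Group Γ] (Z₀ : Subgroup Γ) (U H : Γ) (r : F) (hr0 : r ≠ 0)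
    (hU : U ∈ Subgroup.normalizer (Z₀ : Set Γ)) (hH : H ∈ Subgroup.normalizer (Z₀ : Set Γ)) (hp : U ^ p ∈ Z₀)
    (hab : ∀ j k : ℤ, ⁅vz U H j, vz U H k⁆ ∈ Z₀)
    (hsurj : Function.Surjective (aeval r : (ZMod p)[X] →ₐ[ZMod p] F))
    (hwd : wordOf (vn U H) (minpoly (ZMod p) r) ∈ Z₀) :
    (∀ x ∈ MM U H, ∃ f : (ZMod p)[X], (wordOf (vn U H) f)⁻¹ * x ∈ Z₀) ∧
    (∀ f : (ZMod p)[X], aeval r f = 0 → wordOf (vn U H) f ∈ Z₀) := by
  set N := Subgroup.normalizer (Z₀ : Set Γ) with hN
  haveI : (Z₀.subgroupOf N).Normal := Subgroup.normal_in_normalizer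
  let π : N →* N ⧸ Z₀.subgroupOf N := QuotientGroup.mk' _
  have hπ : ∀ x : N, π x = 1 ↔ x.1 ∈ Z₀ := by
    intro x
    rw [QuotientGroup.mk'_apply, QuotientGroup.eq_one_iff, Subgroup.mem_subgroupOf]
  let u : N := ⟨U, hU⟩
  let h : N := ⟨H, hH⟩
  have hv : ∀ k : ℤ, ((vz u h k : N) : Γ) = vz U H k := by
    intro k
    simp [vz, u, h]
  have hvn : ∀ f : (ZMod p)[X], ((wordOf (vn u h) f : N) : Γ) = wordOf (vn U H) f := by
    intro f
    have := map_wordOf N.subtype (vn u h) f
    simp only [Subgroup.subtype_apply] at this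
    rw [this]
    congr 1
  have hcomm : ∀ j k : ℤ, Commute (vz (π u) (π h) j) (vz (π u) (π h) k) := by
    intro j k
    have e : ∀ i : ℤ, vz (π u) (π h) i = π (vz u h i) := by
      intro i
      simp [vz]
    rw [e, e]
    apply commutatorElement_eq_one_iff_commute.1
    rw [← map_commutatorElement, hπ]
    have : ((⁅vz u h j, vz u h k⁆ : N) : Γ) = ⁅vz U H j, vz U H k⁆ := by
      simp only [commutatorElement_def, Subgroup.coe_mul, Subgroup.coe_inv, hv]
    rw [this]
    exact hab j k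
  have hup : π u ^ p = 1 := by
    rw [← map_pow, hπ]
    exact hp
  have hrel : wordOf (vn (π u) (π h)) (minpoly (ZMod p) r) = 1 := by
    have e : ∀ f : (ZMod p)[X], wordOf (vn (π u) (π h)) f = π (wordOf (vn u h) f) := by
      intro f
      rw [map_wordOf]
      simp only [map_vn]
    rw [e, hπ, hvn]
    exact hwd
  obtain ⟨W', hadd, hconj, hword⟩ := exists_W (π u) (π h) r hup hcomm hsurj hrel
  have hW0 : W' 0 = 1 := by
    have := hadd 0 0
    rw [add_zero] at this
    exact mul_eq_left.1 this.symm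
  have hWneg : ∀ x, W' (-x) = (W' x)⁻¹ := by
    intro x
    have := hadd (-x) x
    rw [neg_add_cancel, hW0] at this
    exact eq_inv_of_mul_eq_one_left this.symm
  have hW1 : W' 1 = π u := by
    have := hword 1
    rw [map_one, wordOf_one] at this
    rw [this]
    simp [vn]
  have e : ∀ f : (ZMod p)[X], wordOf (vn (π u) (π h)) f = π (wordOf (vn u h) f) := by
    intro f
    rw [map_wordOf]
    simp only [map_vn]
  constructor
  · intro x hx
    have hxN : x ∈ N := by
      have hle : MM U H ≤ N := by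
        rw [MM, Subgroup.closure_le]
        rintro _ ⟨k, rfl⟩
        rw [← hv k]
        exact (vz u h k).2
      exact hle hx
    have key : ∀ y ∈ MM U H, ∀ hy : y ∈ N, ∃ c, π ⟨y, hy⟩ = W' c := by
      intro y hy
      induction hy using Subgroup.closure_induction with
      | mem y hy =>
        obtain ⟨k, rfl⟩ := hy
        intro hy
        refine ⟨r ^ k * 1, ?_⟩
        rw [W_zpow hr0 hconj, hW1]
        have e2 : (⟨vz U H k, hy⟩ : N) = vz u h k := Subtype.ext (hv k).symm
        rw [e2]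
        simp [vz]
      | one =>
        intro _
        exact ⟨0, by rw [hW0]; exact map_one π⟩
      | mul a b ha hb iha ihb =>
        intro hy
        have ha' : a ∈ N := by
          have hle : MM U H ≤ N := by
            rw [MM, Subgroup.closure_le]
            rintro _ ⟨k, rfl⟩
            rw [← hv k]
            exact (vz u h k).2
          exact hle ha
        have hb' : b ∈ N := by
          have hle : MM U H ≤ N := by
            rw [MM, Subgroup.closure_le]
            rintro _ ⟨k, rfl⟩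
            rw [← hv k]
            exact (vz u h k).2
          exact hle hb
        obtain ⟨c₁, e₁⟩ := iha ha'
        obtain ⟨c₂, e₂⟩ := ihb hb'
        refine ⟨c₁ + c₂, ?_⟩
        rw [hadd, ← e₁, ← e₂, ← map_mul]
        rfl
      | inv a ha iha =>
        intro hy
        have ha' : a ∈ N := by
          have := inv_mem hy
          simpa using this
        obtain ⟨c, e₁⟩ := iha ha'
        refine ⟨-c, ?_⟩
        rw [hWneg, ← e₁, ← map_inv]
        rfl
    obtain ⟨c, ec⟩ := key x hx hxN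
    obtain ⟨f, rfl⟩ := hsurj c
    refine ⟨f, ?_⟩
    rw [hword, e] at ec
    have h4 : π ((wordOf (vn u h) f)⁻¹ * ⟨x, hxN⟩) = 1 := by
      rw [map_mul, map_inv, ec, inv_mul_cancel]
    rw [hπ] at h4
    simpa [hvn] using h4
  · intro f hf
    have h3 := hword f
    rw [hf, hW0, e] at h3
    have := (hπ _).1 h3.symm
    rwa [hvn] at this

end Cfsg.Agent.Lib.PresSU3
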