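import Cfsg.Agent.Lib.PresSU3.Hat
import Cfsg.Agent.Lib.PresSU3.Quo

/-!
# From the relations among conjugates to the structure on the unipotent subgroup
-/

set_option autoImplicit false

namespace Cfsg.Agent.Lib.PresSU3

open Polynomial Cfsg Cfsg.Agent.Lib.PresSL2.Words
open scoped commutatorElement

variable {F : Type*} [Field F] {σ : F →+* F} (hσ : ∀ x, σ (σ x) = x)
variable {p : ℕ} [Fact p.Prime] [Algebra (ZMod p) F]

lemma iota_aeval {K : Type*} [Field K] [Algebra (ZMod p) K] (ι : K →+* F) (x : K) (f : (ZMod p)[X]) :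
    ι (aeval x f) = aeval (ι x) f := by
  simp only [aeval_def]
  rw [hom_eval₂]
  congr 1
  exact RingHom.ext_zmod _ _

lemma wordOf_mem {Γ : Type*} [Group Γ] {v : ℕ → Γ} {S : Subgroup Γ} (hv : ∀ k, v k ∈ S) (f : (ZMod p)[X]) :
    wordOf v f ∈ S := by
  apply Subgroup.list_prod_mem
  intro x hx
  rw [List.mem_map] at hx
  obtain ⟨i, -, rfl⟩ := hx
  exact Subgroup.pow_mem _ (hv i) _

lemma vn_mem {Γ : Type*} [Group Γ] (U H : Γ) (k : ℕ) : vn U H k ∈ MM U H := by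
  rw [← vz_natCast]
  exact vz_mem U H _

include hσ

lemma word_first {v : ℕ → GG σ} {r : F}
    (hv : ∀ k, ∃ b, ∃ h : b + σ b + (r ^ k) * σ (r ^ k) = 0, v k = qq hσ (r ^ k) b h)
    (f : (ZMod p)[X]) :
    ∃ b, ∃ h : b + σ b + aeval r f * σ (aeval r f) = 0, wordOf v f = qq hσ (aeval r f) b h := by
  have := prodL_first hσ hv f (f.natDegree + 1)
  rw [← aeval_eq_sum_range] at this
  exact this

lemma word_center {v : ℕ → GG σ} {r d : F}
    (hv : ∀ k, ∃ h : r ^ k * d + σ (r ^ k * d) + 0 * σ 0 = 0, v k = qq hσ 0 (r ^ k * d) h)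
    (f : (ZMod p)[X]) :
    ∃ h : aeval r f * d + σ (aeval r f * d) + 0 * σ 0 = 0, wordOf v f = qq hσ 0 (aeval r f * d) h := by
  have := prodL_center hσ hv f (f.natDegree + 1)
  rw [← aeval_eq_sum_range] at this
  exact this

section gen

variable {Γ : Type*} [Group Γ] (φ : Γ →* GG σ) {U H y : Γ} {ζ : Fˣ} {b₀ d₀ : F}
  {h₀ : b₀ + σ b₀ + 1 * σ 1 = 0} {hy0 : d₀ + σ d₀ + 0 * σ 0 = 0}

lemma phi_word_first (hφU : φ U = qq hσ 1 b₀ h₀) (hφH : φ H = tt hσ ζ) (f : (ZMod p)[X]) :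
    ∃ b, ∃ h : b + σ b + aeval ((acH σ ζ : Fˣ) : F) f * σ (aeval ((acH σ ζ : Fˣ) : F) f) = 0,
      φ (wordOf (vn U H) f) = qq hσ (aeval ((acH σ ζ : Fˣ) : F) f) b h := by
  rw [map_wordOf]
  apply word_first hσ
  intro k
  rw [map_vn, hφU, hφH, conj_target_n]
  have e : ((acH σ ζ ^ k : Fˣ) : F) * 1 = ((acH σ ζ : Fˣ) : F) ^ k := by simp
  exact ⟨_, _, qq_congr hσ _ e rfl⟩

lemma phi_word_center (hφy : φ y = qq hσ 0 d₀ hy0) (hφH : φ H = tt hσ ζ) (f : (ZMod p)[X]) :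
    ∃ h : aeval ((nrH σ ζ : Fˣ) : F) f * d₀ + σ (aeval ((nrH σ ζ : Fˣ) : F) f * d₀) + 0 * σ 0 = 0,
      φ (wordOf (vn y H) f) = qq hσ 0 (aeval ((nrH σ ζ : Fˣ) : F) f * d₀) h := by
  rw [map_wordOf]
  apply word_center hσ
  intro k
  rw [map_vn, hφy, hφH, conj_target_n]
  have e : ((acH σ ζ ^ k : Fˣ) : F) * 0 = 0 := mul_zero _
  have e' : ((nrH σ ζ ^ k : Fˣ) : F) * d₀ = ((nrH σ ζ : Fˣ) : F) ^ k * d₀ := by simp
  exact ⟨_, qq_congr hσ _ e e'⟩

lemma sig_of_cstr {d : F} (h : d + σ d + 0 * σ 0 = 0) : σ d = -d := by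
  linear_combination h

/-- Central elements are images. -/
lemma lift_Z (hφy : φ y = qq hσ 0 d₀ hy0) (hφH : φ H = tt hσ ζ) (hd₀ : d₀ ≠ 0)
    (hsn : ∀ c, σ c = c → ∃ f : (ZMod p)[X], aeval ((nrH σ ζ : Fˣ) : F) f = c)
    (d : F) (hd : d + σ d + 0 * σ 0 = 0) : ∃ z ∈ MM y H, φ z = qq hσ 0 d hd := by
  have hc : σ (d / d₀) = d / d₀ := by
    rw [map_div₀, sig_of_cstr hσ hd, sig_of_cstr hσ hy0, neg_div_neg_eq]
  obtain ⟨f, hf⟩ := hsn _ hc
  obtain ⟨h, e⟩ := phi_word_center hσ φ hφy hφH f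
  refine ⟨wordOf (vn y H) f, wordOf_mem (vn_mem y H) f, ?_⟩
  rw [e]
  exact qq_congr hσ _ rfl (by rw [hf, div_mul_cancel₀ _ hd₀])

/-- All unipotent elements are images. -/
lemma lift_Q (hφU : φ U = qq hσ 1 b₀ h₀) (hφH : φ H = tt hσ ζ) (hφy : φ y = qq hσ 0 d₀ hy0) (hd₀ : d₀ ≠ 0)
    (hyM : y ∈ MM U H)
    (hsν : Function.Surjective (aeval ((acH σ ζ : Fˣ) : F) : (ZMod p)[X] →ₐ[ZMod p] F))
    (hsn : ∀ c, σ c = c → ∃ f : (ZMod p)[X], aeval ((nrH σ ζ : Fˣ) : F) f = c)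
    (a b : F) (h : b + σ b + a * σ a = 0) : ∃ x ∈ MM U H, φ x = qq hσ a b h := by
  obtain ⟨f, rfl⟩ := hsν a
  obtain ⟨b₁, h₁, e₁⟩ := phi_word_first hσ φ hφU hφH f
  have hd : (b - b₁) + σ (b - b₁) + 0 * σ 0 = 0 := by
    rw [map_sub]
    linear_combination h - h₁
  obtain ⟨z, hz, ez⟩ := lift_Z hσ φ hφy hφH hd₀ hsn _ hd
  have hle : MM y H ≤ MM U H := MM_le hyM (fun k x hx => MM_zconj U H k hx)
  refine ⟨wordOf (vn U H) f * z, mul_mem (wordOf_mem (vn_mem U H) f) (hle hz), ?_⟩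
  rw [map_mul, e₁, ez]
  obtain ⟨h'', e⟩ := qq_mul_eq hσ h₁ hd (a' := aeval ((acH σ ζ : Fˣ) : F) f) (b' := b) (add_zero _) (by
    rw [map_zero, mul_zero]
    ring)
  rw [e]

/-- The image of the unipotent subgroup. -/
lemma phi_MM (hφU : φ U = qq hσ 1 b₀ h₀) (hφH : φ H = tt hσ ζ) (x : Γ) (hx : x ∈ MM U H) :
    ∃ a b, ∃ h : b + σ b + a * σ a = 0, φ x = qq hσ a b h := by
  induction hx using Subgroup.closure_induction with
  | mem x hx =>
    obtain ⟨k, rfl⟩ := hx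
    have e : φ (vz U H k) = vz (φ U) (φ H) k := by simp [vz]
    rw [e, hφU, hφH, conj_target]
    exact ⟨_, _, _, rfl⟩
  | one => exact ⟨0, 0, cstr_zero, by rw [map_one]; exact (qq_zero hσ).symm⟩
  | mul x y _ _ ihx ihy =>
    obtain ⟨a, b, h, ex⟩ := ihx
    obtain ⟨c, d, h', ey⟩ := ihy
    exact ⟨_, _, _, by rw [map_mul, ex, ey, qq_mul]⟩
  | inv x _ ih =>
    obtain ⟨a, b, h, ex⟩ := ih
    exact ⟨_, _, _, by rw [map_inv, ex, qq_inv]⟩

end gen

/-- The main structural statement. -/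
theorem ctx_of_hat [Finite F] {K : Type*} [Field K] [Finite K] [Algebra (ZMod p) K] (ι : K →+* F)
    (hιr : ∀ x, σ x = x → ∃ c, ι c = x) {nK : K} {ζ : Fˣ} (hιn : ι nK = ((nrH σ ζ : Fˣ) : F))
    {Γ : Type*} [Group Γ] (φ : Γ →* GG σ) {U H W y : Γ} {b₀ d₀ : F} {k₀ : ℤ}
    {h₀ : b₀ + σ b₀ + 1 * σ 1 = 0} {hy0 : d₀ + σ d₀ + 0 * σ 0 = 0}
    (hφU : φ U = qq hσ 1 b₀ h₀) (hφH : φ H = tt hσ ζ) (hφW : φ W = ww σ) (hφy : φ y = qq hσ 0 d₀ hy0)
    (hd₀ : d₀ ≠ 0) (hyM : y ∈ MM U H) (cent : ∀ k : ℤ, Commute (vz U H k) y) (hyp : y ^ p = 1)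
    (hy4 : wordOf (vn y H) (minpoly (ZMod p) nK) = 1)
    (hab : ∀ j k : ℤ, ⁅vz U H j, vz U H k⁆ ∈ MM y H)
    (hUp : U ^ p ∈ MM y H)
    (hg : wordOf (vn U H) (minpoly (ZMod p) ((acH σ ζ : Fˣ) : F)) ∈ MM y H)
    (hsν : Function.Surjective (aeval ((acH σ ζ : Fˣ) : F) : (ZMod p)[X] →ₐ[ZMod p] F))
    (hsn : Function.Surjective (aeval nK : (ZMod p)[X] →ₐ[ZMod p] K))
    (hord : ∀ j : ℤ, ζ ^ j = 1 → H ^ j = 1) (hW2 : W * W = 1) (hWH : W * H * W⁻¹ = H ^ k₀) :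
    Ctx hσ ζ φ (MM U H) H W k₀ := by
  have hsn' : ∀ c, σ c = c → ∃ f : (ZMod p)[X], aeval ((nrH σ ζ : Fˣ) : F) f = c := by
    intro c hc
    obtain ⟨c', rfl⟩ := hιr c hc
    obtain ⟨f, rfl⟩ := hsn c'
    exact ⟨f, by rw [iota_aeval, hιn]⟩
  have hyMle : MM y H ≤ MM U H := MM_le hyM (fun k x hx => MM_zconj U H k hx)
  have hcomm_zy : ∀ j k, Commute (vz U H j) (vz y H k) := by
    intro j k
    have h1 := comm_conj' (H ^ k) (cent (j - k))
    have e1 : H ^ k * vz U H (j - k) * (H ^ k)⁻¹ = vz U H j := by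
      have := Cfsg.Agent.Lib.PresSL2.Comm.vz_shift U H k (j - k)
      rwa [zpow_neg, sub_add_cancel] at this
    rwa [e1, ← vz_eq] at h1
  have hz_cent : ∀ x ∈ MM U H, ∀ k, Commute x (vz y H k) := by
    intro x hx k
    induction hx using Subgroup.closure_induction with
    | mem x hx =>
      obtain ⟨j, rfl⟩ := hx
      exact hcomm_zy j k
    | one => exact Commute.one_left _
    | mul x y _ _ ihx ihy => exact ihx.mul_left ihy
    | inv x _ ih => exact ih.inv_left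
  have hcomm_y : ∀ j k, Commute (vz y H j) (vz y H k) :=
    fun j k => hz_cent _ (hyMle (vz_mem y H j)) k
  obtain ⟨Z, hZadd, hZconj, hZword⟩ := exists_W y H nK hyp hcomm_y hsn hy4
  have hφZ : ∀ c : K, ∃ h, φ (Z c) = qq hσ 0 (ι c * d₀) h := by
    intro c
    obtain ⟨f, rfl⟩ := hsn c
    rw [hZword, iota_aeval, hιn]
    exact phi_word_center hσ φ hφy hφH f
  have hZ0 : Z 0 = 1 := by
    have := hZadd 0 0
    rw [add_zero] at this
    exact mul_eq_left.1 this.symm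
  have hZneg : ∀ x, Z (-x) = (Z x)⁻¹ := by
    intro x
    have := hZadd (-x) x
    rw [neg_add_cancel, hZ0] at this
    exact eq_inv_of_mul_eq_one_left this.symm
  have hZ1 : Z 1 = y := by
    have := hZword 1
    rw [map_one, wordOf_one] at this
    rw [this]
    simp [vn]
  have hnK0 : nK ≠ 0 := by
    rintro rfl
    rw [map_zero] at hιn
    exact (nrH σ ζ).ne_zero hιn.symm
  have hZrange : ∀ z ∈ MM y H, ∃ c, Z c = z := by
    intro z hz
    induction hz using Subgroup.closure_induction with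
    | mem x hx =>
      obtain ⟨k, rfl⟩ := hx
      refine ⟨nK ^ k * 1, ?_⟩
      rw [W_zpow hnK0 hZconj, hZ1, vz_eq]
    | one => exact ⟨0, hZ0⟩
    | mul x y _ _ ihx ihy =>
      obtain ⟨c, rfl⟩ := ihx
      obtain ⟨d, rfl⟩ := ihy
      exact ⟨c + d, hZadd _ _⟩
    | inv x _ ih =>
      obtain ⟨c, rfl⟩ := ih
      exact ⟨-c, hZneg _⟩
  have hcU : ∀ z ∈ MM y H, Commute U z := by
    intro z hz
    induction hz using Subgroup.closure_induction with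
    | mem x hx =>
      obtain ⟨k, rfl⟩ := hx
      have := hcomm_zy 0 k
      simpa [vz] using this
    | one => exact Commute.one_right _
    | mul x y _ _ ihx ihy => exact ihx.mul_right ihy
    | inv x _ ih => exact ih.inv_right
  have hUN : U ∈ Subgroup.normalizer ((MM y H : Subgroup Γ) : Set Γ) := by
    rw [Subgroup.mem_normalizer_iff]
    intro z
    constructor
    · intro hz
      rw [(hcU z hz).eq, mul_inv_cancel_right]
      exact hz
    · intro hz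
      have e : Commute U⁻¹ (U * z * U⁻¹) := (hcU _ hz).inv_left
      have h1 := e.eq
      have h2 : U⁻¹ * (U * z * U⁻¹) = z * U⁻¹ := by group
      rw [h2] at h1
      rw [mul_right_cancel h1]
      exact hz
  have hHN : H ∈ Subgroup.normalizer ((MM y H : Subgroup Γ) : Set Γ) := by
    rw [Subgroup.mem_normalizer_iff]
    intro z
    constructor
    · exact MM_conj y H
    · intro hz
      have := MM_inv_conj y H hz
      have e : H⁻¹ * (H * z * H⁻¹) * H = z := by group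
      rwa [e] at this
  have hν0 : ((acH σ ζ : Fˣ) : F) ≠ 0 := (acH σ ζ).ne_zero
  obtain ⟨q1, q2⟩ := quot_word (MM y H) U H _ hν0 hUN hHN hUp hab hsν hg
  refine
    { Qr := phi_MM hσ φ hφU hφH
      Qinj := ?_
      Qs := lift_Q hσ φ hφU hφH hφy hd₀ hyM hsν hsn'
      HQ := fun x hx => MM_conj U H hx
      HQ' := fun x hx => MM_inv_conj U H hx
      φH := hφH
      φW := hφW
      Hord := hord
      W2 := hW2
      WH := hWH }
  intro x hx hx1
  obtain ⟨f, hf⟩ := q1 x hx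
  obtain ⟨c, hc⟩ := hZrange _ hf
  obtain ⟨h1, e1⟩ := hφZ c
  obtain ⟨b, h, e⟩ := phi_word_first hσ φ hφU hφH f
  have hx2 : x = wordOf (vn U H) f * Z c := by
    rw [hc]
    group
  have h3 : aeval ((acH σ ζ : Fˣ) : F) f = 0 := by
    have h4 : φ x = qq hσ _ _ (cstr_mul hσ h h1) := by
      rw [hx2, map_mul, e, e1, qq_mul]
    rw [hx1, ← qq_zero hσ] at h4
    have := (qq_inj hσ h4).1
    rw [add_zero] at this
    exact this.symm
  have hfZ := q2 f h3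
  have hxZ : x ∈ MM y H := by
    rw [hx2]
    exact mul_mem hfZ (hc ▸ hf)
  obtain ⟨c', rfl⟩ := hZrange x hxZ
  obtain ⟨h5, e5⟩ := hφZ c'
  rw [e5, ← qq_zero hσ] at hx1
  have h6 := (qq_inj hσ hx1).2
  have h7 : ι c' = 0 := (mul_eq_zero.1 h6).resolve_right hd₀
  have h8 : c' = 0 := (map_eq_zero ι).1 h7
  rw [h8, hZ0]

end Cfsg.Agent.Lib.PresSU3
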