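import Cfsg.Agent.Lib.PresSU3.Fld

/-!
# The unitary group of the form with a Witt basis and the standard one
-/

set_option autoImplicit false

namespace Cfsg.Agent.Lib.PresSU3

open Matrix Cfsg Cfsg.Agent.Lib.HermCount.Field

variable {F : Type*} [Field F] [Fintype F] {q : ℕ} (hF : Fintype.card F = q ^ 2)

/-- The change of basis. -/
def PP3 (α l e : F) : Matrix (Fin 3) (Fin 3) F := !![1, 0, α; l, 0, α * e * l; 0, 1, 0]

lemma PP3_apply (α l e : F) (x : Fin 3 → F) :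
    PP3 α l e *ᵥ x = ![x 0 + α * x 2, l * x 0 + α * e * l * x 2, x 1] := by
  ext i
  fin_cases i <;> simp [PP3, mulVec, dotProduct, Fin.sum_univ_three]

include hF

lemma herm_P {α l e : F} (hN : l * frobHom hF l = -1) (he : e * frobHom hF e = 1) (h1 : α * (1 - e) = 1)
    (h2 : frobHom hF α * (1 - frobHom hF e) = 1) (x y : Fin 3 → F) :
    hermForm 3 F q (PP3 α l e *ᵥ x) (PP3 α l e *ᵥ y) = fw (frobHom hF) x y := by
  rw [PP3_apply, PP3_apply]
  simp only [hermForm, Fin.sum_univ_three, fw, ← frobHom_apply hF, cons_val_zero, cons_val_one, cons_val, map_add,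
    map_mul]
  set a := frobHom hF α
  set s := frobHom hF l
  set t := frobHom hF e
  set x0 := x 0
  set x1 := x 1
  set x2 := x 2
  set y0 := frobHom hF (y 0)
  set y1 := frobHom hF (y 1)
  set y2 := frobHom hF (y 2)
  linear_combination (x0 * y0 + x0 * y2 * a * t + x2 * y0 * α * e + x2 * y2 * α * a) * hN + x0 * y2 * h2 +
    x2 * y0 * h1 + x2 * y2 * α * a * (l * s) * he

/-- The isomorphism. -/
theorem exists_iso (hq : 2 ≤ q) : Nonempty (GG (frobHom hF) ≃* ↥(Cfsg.SU 3 F q)) := by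
  classical
  obtain ⟨ζ, hgen, hord⟩ := exists_gen_units hF
  obtain ⟨t, ht⟩ := exists_nrm hF (-1) (by simp [map_neg]) (by
    simp only [ne_eq, neg_eq_zero, one_ne_zero, not_false_eq_true])
  set l : F := (t : F) with hl
  have hN : l * frobHom hF l = -1 := ht
  set e : F := ((ζ ^ (q - 1) : Fˣ) : F) with he
  have hnorm : e * frobHom hF e = 1 := c0_norm hF hord ζ hq
  have he1 : e ≠ 1 := by
    intro h
    apply c0_ne hF hord hq
    apply Units.ext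
    exact h
  have hse1 : 1 - frobHom hF e ≠ 0 := by
    intro h
    apply he1
    apply (frobHom hF).injective
    rw [map_one]
    linear_combination -h
  set α : F := (1 - e)⁻¹ with hα
  have h1 : α * (1 - e) = 1 := inv_mul_cancel₀ (sub_ne_zero.2 he1.symm)
  have h2 : frobHom hF α * (1 - frobHom hF e) = 1 := by
    rw [hα, map_inv₀, map_sub, map_one]
    exact inv_mul_cancel₀ hse1
  set P := PP3 α l e with hP
  have hl0 : l ≠ 0 := t.ne_zero
  have hdet : P.det = l := by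
    rw [hP, PP3, det_fin_three]
    simp only [of_apply, cons_val_zero, cons_val_one, cons_val]
    linear_combination l * h1
  have hPu : IsUnit P.det := by
    rw [hdet]
    exact isUnit_iff_ne_zero.2 hl0
  have hPc : ∀ x y, hermForm 3 F q (P *ᵥ x) (P *ᵥ y) = fw (frobHom hF) x y := herm_P hF hN hnorm h1 h2
  have hPP : ∀ u : Fin 3 → F, P *ᵥ (P⁻¹ *ᵥ u) = u := by
    intro u
    rw [mulVec_mulVec, mul_nonsing_inv _ hPu, one_mulVec]
  have hPP' : ∀ u : Fin 3 → F, P⁻¹ *ᵥ (P *ᵥ u) = u := by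
    intro u
    rw [mulVec_mulVec, nonsing_inv_mul _ hPu, one_mulVec]
  have hi1 : P⁻¹ * P = 1 := nonsing_inv_mul _ hPu
  have hi2 : P * P⁻¹ = 1 := mul_nonsing_inv _ hPu
  refine ⟨
    { toFun := fun g => ⟨⟨P * g.1.1 * P⁻¹, by rw [det_conj_of_mul_eq_one hi2 hi1]; exact g.1.2⟩, fun u v => ?_⟩
      invFun := fun g => ⟨⟨P⁻¹ * g.1.1 * P, ?_⟩, fun u v => ?_⟩
      left_inv := fun g => ?_
      right_inv := fun g => ?_
      map_mul' := fun a b => ?_ }⟩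
  · change hermForm 3 F q ((P * g.1.1 * P⁻¹) *ᵥ u) ((P * g.1.1 * P⁻¹) *ᵥ v) = _
    have e1 : ∀ w : Fin 3 → F, (P * g.1.1 * P⁻¹) *ᵥ w = P *ᵥ (g.1.1 *ᵥ (P⁻¹ *ᵥ w)) := by
      intro w
      rw [mulVec_mulVec, mulVec_mulVec, mul_assoc]
    rw [e1, e1, hPc]
    have h3 := g.2 (P⁻¹ *ᵥ u) (P⁻¹ *ᵥ v)
    change fw (frobHom hF) (g.1.1 *ᵥ (P⁻¹ *ᵥ u)) (g.1.1 *ᵥ (P⁻¹ *ᵥ v)) = _ at h3
    rw [h3, ← hPc, hPP, hPP]
  · rw [det_conj_of_mul_eq_one hi1 hi2]
    exact g.1.2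
  · change fw (frobHom hF) ((P⁻¹ * g.1.1 * P) *ᵥ u) ((P⁻¹ * g.1.1 * P) *ᵥ v) = _
    rw [← hPc, ← hPc u v]
    have e1 : ∀ w : Fin 3 → F, P *ᵥ ((P⁻¹ * g.1.1 * P) *ᵥ w) = g.1.1 *ᵥ (P *ᵥ w) := by
      intro w
      rw [mulVec_mulVec, mulVec_mulVec]
      have : P * (P⁻¹ * g.1.1 * P) = (P * P⁻¹) * g.1.1 * P := by simp only [mul_assoc]
      rw [this, hi2, one_mul]
    rw [e1, e1]
    exact g.2 (P *ᵥ u) (P *ᵥ v)
  · apply GG_ext
    change P⁻¹ * (P * g.1.1 * P⁻¹) * P = g.1.1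
    have : P⁻¹ * (P * g.1.1 * P⁻¹) * P = (P⁻¹ * P) * g.1.1 * (P⁻¹ * P) := by simp only [mul_assoc]
    rw [this, hi1, one_mul, mul_one]
  · apply Subtype.ext
    apply Subtype.ext
    change P * (P⁻¹ * g.1.1 * P) * P⁻¹ = g.1.1
    have : P * (P⁻¹ * g.1.1 * P) * P⁻¹ = (P * P⁻¹) * g.1.1 * (P * P⁻¹) := by simp only [mul_assoc]
    rw [this, hi2, one_mul, mul_one]
  · apply Subtype.ext
    apply Subtype.ext
    change P * (a.1.1 * b.1.1) * P⁻¹ = P * a.1.1 * P⁻¹ * (P * b.1.1 * P⁻¹)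
    have : P * a.1.1 * P⁻¹ * (P * b.1.1 * P⁻¹) = P * a.1.1 * (P⁻¹ * P) * b.1.1 * P⁻¹ := by
      simp only [mul_assoc]
    rw [this, hi1, mul_one]
    simp only [mul_assoc]

end Cfsg.Agent.Lib.PresSU3
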