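import Cfsg.Agent.Lib.PresSU3.RelGen

/-!
# The relators for small degree: a sliding window
-/

set_option autoImplicit false

namespace Cfsg.Agent.Lib.PresSU3

open Polynomial Cfsg Cfsg.Agent.Lib.PresSL2.Words Cfsg.Agent.Lib.PresSL2.Comm
open scoped commutatorElement

section abs

variable {Γ : Type*} [Group Γ] {u h : Γ} {p : ℕ} [Fact p.Prime]

/-- Commutativity from the sliding window of width six. -/
theorem comm_of_window6 {g : (ZMod p)[X]} (hg : g.Monic) (hdeg : g.natDegree ≤ 6)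
    (hrel : wordOf (vn u h) g = 1)
    (h1 : Commute (vz u h 0) (vz u h 1)) (h2 : Commute (vz u h 0) (vz u h 2))
    (h3 : Commute (vz u h 0) (vz u h 3)) (j k : ℤ) :
    Commute (vz u h j) (vz u h k) := by
  set C := Subgroup.centralizer ({vz u h 0} : Set Γ) with hC
  have mem_C : ∀ x, Commute (vz u h 0) x ↔ x ∈ C := by
    intro x
    rw [hC, Subgroup.mem_centralizer_iff]
    simp only [Set.mem_singleton_iff, forall_eq]
    exact Iff.rfl
  have key : ∀ n : ℕ, vz u h ((n : ℤ) - 3) ∈ C := by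
    intro n
    induction n using Nat.strong_induction_on with
    | _ n ih =>
      by_cases hn : n ≤ 6
      · rw [← mem_C]
        interval_cases n
        · have := comm_neg h3
          simpa using this
        · have := comm_neg h2
          simpa using this
        · have := comm_neg h1
          simpa using this
        · simpa using Commute.refl _
        · simpa using h1
        · simpa using h2
        · simpa using h3
      · have e := vz_top hg hrel ((n : ℤ) - 3 - g.natDegree)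
        rw [show (g.natDegree : ℤ) + ((n : ℤ) - 3 - g.natDegree) = (n : ℤ) - 3 by ring] at e
        rw [e]
        apply Subgroup.inv_mem
        apply Subgroup.list_prod_mem
        intro x hx
        rw [List.mem_map] at hx
        obtain ⟨i, hi, rfl⟩ := hx
        rw [List.mem_range] at hi
        apply Subgroup.pow_mem
        have e2 := ih (i + n - g.natDegree) (by omega)
        convert e2 using 2
        have : g.natDegree ≤ i + n := by omega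
        rw [Nat.cast_sub this]
        push_cast
        ring
  apply comm_zero_iff
  obtain hk | hk := le_or_gt (-3) (k - j)
  · rw [mem_C]
    have := key ((k - j + 3).toNat)
    rwa [Int.toNat_of_nonneg (by omega), add_sub_cancel_right] at this
  · have h4 : Commute (vz u h 0) (vz u h (-(k - j))) := by
      rw [mem_C]
      have := key ((-(k - j) + 3).toNat)
      rwa [Int.toNat_of_nonneg (by omega), add_sub_cancel_right] at this
    have := comm_neg h4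
    rwa [neg_neg] at this

/-- The window modulo a normalized subgroup. -/
lemma window6_mod (Z : Subgroup Γ) {U H : Γ} (hU : U ∈ Subgroup.normalizer (Z : Set Γ))
    (hH : H ∈ Subgroup.normalizer (Z : Set Γ)) {g : (ZMod p)[X]} (hg : g.Monic) (hdeg : g.natDegree ≤ 6)
    (hrel : wordOf (vn U H) g ∈ Z)
    (h1 : ⁅vz U H 0, vz U H 1⁆ ∈ Z) (h2 : ⁅vz U H 0, vz U H 2⁆ ∈ Z) (h3 : ⁅vz U H 0, vz U H 3⁆ ∈ Z)
    (j k : ℤ) : ⁅vz U H j, vz U H k⁆ ∈ Z := by
  set N := Subgroup.normalizer (Z : Set Γ) with hN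
  haveI : (Z.subgroupOf N).Normal := Subgroup.normal_in_normalizer
  let π : N →* N ⧸ Z.subgroupOf N := QuotientGroup.mk' _
  have hπ : ∀ x : N, π x = 1 ↔ x.1 ∈ Z := by
    intro x
    rw [QuotientGroup.mk'_apply, QuotientGroup.eq_one_iff, Subgroup.mem_subgroupOf]
  let u : N := ⟨U, hU⟩
  let h : N := ⟨H, hH⟩
  have hv : ∀ k : ℤ, ((vz u h k : N) : Γ) = vz U H k := by
    intro k
    simp [vz, u, h]
  have e : ∀ i : ℤ, vz (π u) (π h) i = π (vz u h i) := by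
    intro i
    simp [vz]
  have hcc : ∀ j k : ℤ, ((⁅vz u h j, vz u h k⁆ : N) : Γ) = ⁅vz U H j, vz U H k⁆ := by
    intro j k
    simp only [commutatorElement_def, Subgroup.coe_mul, Subgroup.coe_inv, hv]
  have hc : ∀ k : ℤ, ⁅vz U H 0, vz U H k⁆ ∈ Z → Commute (vz (π u) (π h) 0) (vz (π u) (π h) k) := by
    intro k hk
    rw [e, e]
    apply commutatorElement_eq_one_iff_commute.1
    rw [← map_commutatorElement, hπ, hcc]
    exact hk
  have hvn : ((wordOf (vn u h) g : N) : Γ) = wordOf (vn U H) g := by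
    have := map_wordOf N.subtype (vn u h) g
    simp only [Subgroup.subtype_apply] at this
    rw [this]
    congr 1
  have hrel' : wordOf (vn (π u) (π h)) g = 1 := by
    have e2 : wordOf (vn (π u) (π h)) g = π (wordOf (vn u h) g) := by
      rw [map_wordOf]
      simp only [map_vn]
    rw [e2, hπ, hvn]
    exact hrel
  have h4 := comm_of_window6 hg hdeg hrel' (hc 1 h1) (hc 2 h2) (hc 3 h3) j k
  rw [e, e] at h4
  have h5 := commutatorElement_eq_one_iff_commute.2 h4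
  rw [← map_commutatorElement, hπ, hcc] at h5
  exact h5

/-- Central commutation from a periodic family. -/
lemma cent_periodic {U H Y : Γ} {M : ℕ} (hM : 0 < M) (h2 : Commute (H ^ (M : ℤ)) Y)
    (hi : ∀ i : ℕ, i < M → Commute (vn U H i) Y) (k : ℤ) : Commute (vz U H k) Y := by
  obtain ⟨t, ht⟩ := Int.eq_ofNat_of_zero_le (Int.emod_nonneg k (by omega : (M : ℤ) ≠ 0))
  have ht2 : t < M := by
    have := Int.emod_lt_of_pos k (by omega : (0 : ℤ) < M)
    omega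
  have h3 := comm_conj' ((H ^ (M : ℤ)) ^ (k / M)) (hi t ht2)
  have e : (H ^ (M : ℤ)) ^ (k / M) * Y * ((H ^ (M : ℤ)) ^ (k / M))⁻¹ = Y := by
    rw [(h2.zpow_left _).eq, mul_inv_cancel_right]
  rw [e] at h3
  have e2 : (H ^ (M : ℤ)) ^ (k / M) * vn U H t * ((H ^ (M : ℤ)) ^ (k / M))⁻¹ = vz U H k := by
    rw [← vz_natCast, ← ht]
    have := vz_shift U H ((M : ℤ) * (k / M)) (k % M)
    rw [zpow_neg, Int.emod_add_mul_ediv] at this
    rw [zpow_mul] at this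
    exact this
  rwa [e2] at h3

end abs

section target

variable {F : Type*} [Field F] {σ : F →+* F} (hσ : ∀ x, σ (σ x) = x)
variable (ζ : Fˣ) {b₀ : F} (h₀ : b₀ + σ b₀ + 1 * σ 1 = 0)
variable {p : ℕ} [Fact p.Prime] [Algebra (ZMod p) F]

/-- The relators for a field of small degree. -/
theorem exists_small [Finite F] {K : Type*} [Field K] [Finite K] [Algebra (ZMod p) K] (ι : K →+* F)
    (hιr : ∀ x, σ x = x → ∃ c, ι c = x) {nK : K} (hιn : ι nK = ((nrH σ ζ : Fˣ) : F))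
    (hζ : ∀ u : Fˣ, ∃ k : ℤ, ζ ^ k = u) {N : ℕ} (hN : orderOf ζ = N) {k₀ : ℤ}
    (hk₀ : (Units.map (σ : F →* F) ζ)⁻¹ = ζ ^ k₀)
    (hnorm : ∀ x : F, σ x = x → x ≠ 0 → ∃ t : Fˣ, nrm σ (t : F) = x)
    {c₀ : F} (hc₀ : c₀ * σ c₀ = 1) (hc₀1 : c₀ ≠ 1) (hgenC : ∀ c, c * σ c = 1 → ∃ k : ℕ, c₀ ^ k = c)
    (hm1 : nrm σ ((ζ ^ (7 : ℤ) : Fˣ) : F) = 1)
    (hd₀ : ((acH σ ζ ^ (1 : ℤ) : Fˣ) : F) - σ ((acH σ ζ ^ (1 : ℤ) : Fˣ) : F) ≠ 0)
    (hdeg : (minpoly (ZMod p) ((acH σ ζ : Fˣ) : F)).natDegree ≤ 6)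
    (hsν : Function.Surjective (aeval ((acH σ ζ : Fˣ) : F) : (ZMod p)[X] →ₐ[ZMod p] F))
    (hsn : Function.Surjective (aeval nK : (ZMod p)[X] →ₐ[ZMod p] K)) :
    ∃ L : List XX, L.length = 21 ∧ (∀ r ∈ L, ltt hσ ζ h₀ r = 1) ∧
      ∀ (Γ : Type) [Group Γ] (π : XX →* Γ) (_ : Function.Surjective π) (φ : Γ →* GG σ)
        (_ : ∀ x, φ (π x) = ltt hσ ζ h₀ x), (∀ r ∈ L, π r = 1) → Function.Bijective φ := by
  have hsn' : ∀ c, σ c = c → ∃ f : (ZMod p)[X], aeval ((nrH σ ζ : Fˣ) : F) f = c := by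
    intro c hc
    obtain ⟨c', rfl⟩ := hιr c hc
    obtain ⟨f, rfl⟩ := hsn c'
    exact ⟨f, by rw [iota_aeval, hιn]⟩
  set y : XX := ⁅xu, vz xu xh 1⁆ with hy
  obtain ⟨hy0, hφy⟩ := ltt_comm hσ ζ h₀ 1
  have hu0 : vz xu xh 0 = xu := by simp [vz]
  have hyM : y ∈ MM xu xh := by
    have := comm_mem (U := xu) (H := xh) 0 1
    rwa [hu0] at this
  obtain ⟨L₀, hL₀, hL₀t, hL₀Γ⟩ := exists_common hσ ζ h₀ ι hιr hιn hζ hN hk₀ hnorm hc₀ hc₀1 hgenC hyM hφy hd₀ hsν hsn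
  have hliftZ := lift_Z hσ (ltt hσ ζ h₀) (H := xh) hφy (ltt_h hσ ζ h₀) hd₀ hsn'
  have r2 : ltt hσ ζ h₀ ⁅xh ^ (7 : ℤ), y⁆ = 1 := by
    rw [map_commutatorElement, map_zpow, ltt_h, hφy, tt_zpow]
    exact ltt_comm_central hσ _ hm1
  have r5 : ∀ i : ℕ, ltt hσ ζ h₀ ⁅vn xu xh i, y⁆ = 1 := by
    intro i
    rw [map_commutatorElement, hφy, map_vn, ltt_u, ltt_h, conj_target_n]
    obtain ⟨h'', e⟩ := qq_comm hσ (a := ((acH σ ζ ^ i : Fˣ) : F) * 1) (b := ((nrH σ ζ ^ i : Fˣ) : F) * b₀) (by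
        rw [← map_pow, ← map_pow, acH_val, nrH_val]
        exact cstr_tt hσ (ζ ^ i).ne_zero h₀) hy0
    rw [e, ← qq_zero hσ]
    refine qq_congr hσ _ rfl ?_
    simp
  have hzz : ∀ j : ℤ, ∃ z ∈ MM y xh, ltt hσ ζ h₀ z = ltt hσ ζ h₀ ⁅xu, vz xu xh j⁆ := by
    intro j
    obtain ⟨h', e⟩ := ltt_comm hσ ζ h₀ j
    obtain ⟨z, hz, ez⟩ := hliftZ _ h'
    exact ⟨z, hz, by rw [ez, e]⟩
  obtain ⟨z₂, hz₂, e₂⟩ := hzz 2
  obtain ⟨z₃, hz₃, e₃⟩ := hzz 3
  refine ⟨L₀ ++ [⁅xh ^ (7 : ℤ), y⁆, ⁅vn xu xh 0, y⁆, ⁅vn xu xh 1, y⁆, ⁅vn xu xh 2, y⁆, ⁅vn xu xh 3, y⁆, ⁅vn xu xh 4, y⁆,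
    ⁅vn xu xh 5, y⁆, ⁅vn xu xh 6, y⁆, ⁅xu, vz xu xh 2⁆ * z₂⁻¹, ⁅xu, vz xu xh 3⁆ * z₃⁻¹], ?_, ?_, ?_⟩
  · simp [hL₀]
  · intro r hr
    rw [List.mem_append] at hr
    rcases hr with hr | hr
    · exact hL₀t r hr
    · simp only [List.mem_cons, List.not_mem_nil, or_false] at hr
      rcases hr with rfl | rfl | rfl | rfl | rfl | rfl | rfl | rfl | rfl | rfl
      · exact r2
      · exact r5 0
      · exact r5 1
      · exact r5 2
      · exact r5 3
      · exact r5 4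
      · exact r5 5
      · exact r5 6
      · rw [map_mul, map_inv, e₂, mul_inv_cancel]
      · rw [map_mul, map_inv, e₃, mul_inv_cancel]
  · intro Γ _ π hπ φ hφ hL
    obtain ⟨hHN, hG, hcont⟩ := hL₀Γ Γ π hπ φ hφ (fun r hr => hL r (List.mem_append_left _ hr))
    have hX : ∀ r ∈ [⁅xh ^ (7 : ℤ), y⁆, ⁅vn xu xh 0, y⁆, ⁅vn xu xh 1, y⁆, ⁅vn xu xh 2, y⁆, ⁅vn xu xh 3, y⁆, ⁅vn xu xh 4, y⁆,
        ⁅vn xu xh 5, y⁆, ⁅vn xu xh 6, y⁆, ⁅xu, vz xu xh 2⁆ * z₂⁻¹, ⁅xu, vz xu xh 3⁆ * z₃⁻¹], π r = 1 :=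
      fun r hr => hL r (List.mem_append_right _ hr)
    have h2 := hX ⁅xh ^ (7 : ℤ), y⁆ (by simp)
    have hc5 : ∀ i : ℕ, ⁅vn xu xh i, y⁆ ∈ [⁅xh ^ (7 : ℤ), y⁆, ⁅vn xu xh 0, y⁆, ⁅vn xu xh 1, y⁆, ⁅vn xu xh 2, y⁆, ⁅vn xu xh 3, y⁆, ⁅vn xu xh 4, y⁆,
        ⁅vn xu xh 5, y⁆, ⁅vn xu xh 6, y⁆, ⁅xu, vz xu xh 2⁆ * z₂⁻¹, ⁅xu, vz xu xh 3⁆ * z₃⁻¹] → Commute (vn (π xu) (π xh) i) (π y) := by
      intro i hi
      have := hX _ hi
      rw [map_commutatorElement, map_vn, commutatorElement_eq_one_iff_commute] at this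
      exact this
    rw [map_commutatorElement, map_zpow, commutatorElement_eq_one_iff_commute] at h2
    have hi : ∀ i : ℕ, i < 7 → Commute (vn (π xu) (π xh) i) (π y) := by
      intro i hi
      apply hc5
      interval_cases i <;> simp
    have cent := cent_periodic (M := 7) (by norm_num) (by simpa using h2) hi
    obtain ⟨hUN, hHN'⟩ := norm_of_cent cent
    have hY : π y ∈ MM (π y) (π xh) := by
      have := vz_mem (π y) (π xh) 0
      simpa [vz] using this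
    have h00 : vz (π xu) (π xh) 0 = π xu := by simp [vz]
    have hc1 : ⁅vz (π xu) (π xh) 0, vz (π xu) (π xh) 1⁆ ∈ MM (π y) (π xh) := by
      have e : ⁅vz (π xu) (π xh) 0, vz (π xu) (π xh) 1⁆ = π y := by
        rw [h00, hy, map_commutatorElement, map_vz]
      rw [e]
      exact hY
    have hc2 : ⁅vz (π xu) (π xh) 0, vz (π xu) (π xh) 2⁆ ∈ MM (π y) (π xh) := by
      have h5 := hX (⁅xu, vz xu xh 2⁆ * z₂⁻¹) (by simp)
      rw [map_mul, map_inv, mul_inv_eq_one, map_commutatorElement, map_vz] at h5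
      rw [h00, h5]
      exact map_MM π hz₂
    have hc3 : ⁅vz (π xu) (π xh) 0, vz (π xu) (π xh) 3⁆ ∈ MM (π y) (π xh) := by
      have h5 := hX (⁅xu, vz xu xh 3⁆ * z₃⁻¹) (by simp)
      rw [map_mul, map_inv, mul_inv_eq_one, map_commutatorElement, map_vz] at h5
      rw [h00, h5]
      exact map_MM π hz₃
    have hmon : (minpoly (ZMod p) ((acH σ ζ : Fˣ) : F)).Monic := minpoly.monic (Algebra.IsIntegral.isIntegral _)
    exact hcont cent (window6_mod _ hUN hHN' hmon hdeg hG hc1 hc2 hc3)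

end target

end Cfsg.Agent.Lib.PresSU3
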