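import Cfsg.Agent.Lib.PresSU3.Gen

/-!
# The relators for the generic case
-/

set_option autoImplicit false

namespace Cfsg.Agent.Lib.PresSU3

open Polynomial Cfsg Cfsg.Agent.Lib.PresSL2.Words Cfsg.Agent.Lib.PresSL2.Comm
open scoped commutatorElement

lemma norm_of_cent {Γ : Type*} [Group Γ] {U H Y : Γ} (cent : ∀ k : ℤ, Commute (vz U H k) Y) :
    U ∈ Subgroup.normalizer ((MM Y H : Subgroup Γ) : Set Γ) ∧
    H ∈ Subgroup.normalizer ((MM Y H : Subgroup Γ) : Set Γ) := by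
  have hcomm_zy : ∀ j k, Commute (vz U H j) (vz Y H k) := by
    intro j k
    have h1 := comm_conj' (H ^ k) (cent (j - k))
    have e1 : H ^ k * vz U H (j - k) * (H ^ k)⁻¹ = vz U H j := by
      have := vz_shift U H k (j - k)
      rwa [zpow_neg, sub_add_cancel] at this
    rwa [e1, ← vz_eq] at h1
  have hcU : ∀ z ∈ MM Y H, Commute U z := by
    intro z hz
    induction hz using Subgroup.closure_induction with
    | mem x hx =>
      obtain ⟨k, rfl⟩ := hx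
      have := hcomm_zy 0 k
      simpa [vz] using this
    | one => exact Commute.one_right _
    | mul x y _ _ ihx ihy => exact ihx.mul_right ihy
    | inv x _ ih => exact ih.inv_right
  constructor
  · rw [Subgroup.mem_normalizer_iff]
    intro z
    constructor
    · intro hz
      rw [(hcU z hz).eq, mul_inv_cancel_right]
      exact hz
    · intro hz
      have e : Commute U⁻¹ (U * z * U⁻¹) := (hcU _ hz).inv_left
      have h1 := e.eq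
      have h2 : U⁻¹ * (U * z * U⁻¹) = z * U⁻¹ := by group
      rw [h2] at h1
      rw [mul_right_cancel h1]
      exact hz
  · rw [Subgroup.mem_normalizer_iff]
    intro z
    constructor
    · exact MM_conj Y H
    · intro hz
      have := MM_inv_conj Y H hz
      have e : H⁻¹ * (H * z * H⁻¹) * H = z := by group
      rwa [e] at this

section target

variable {F : Type*} [Field F] {σ : F →+* F} (hσ : ∀ x, σ (σ x) = x)
variable (ζ : Fˣ) {b₀ : F} (h₀ : b₀ + σ b₀ + 1 * σ 1 = 0)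
variable {p : ℕ} [Fact p.Prime] [Algebra (ZMod p) F]

/-- The commutation of the torus element with central elements. -/
lemma ltt_comm_central {t : Fˣ} {d : F} (hd : d + σ d + 0 * σ 0 = 0) (ht : nrm σ (t : F) = 1) :
    ⁅tt hσ t, qq hσ 0 d hd⁆ = 1 := by
  rw [commutatorElement_def, tt_qq]
  have e : qq hσ (ac σ (t : F) * 0) (nrm σ (t : F) * d) (cstr_tt hσ t.ne_zero hd) = qq hσ 0 d hd :=
    qq_congr hσ _ (mul_zero _) (by rw [ht, one_mul])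
  rw [e, mul_inv_cancel]

lemma ltt_first_zero (m m' : ℤ) (htri : 1 + ((acH σ ζ ^ m : Fˣ) : F) = ((acH σ ζ ^ m' : Fˣ) : F)) :
    ∃ b, ∃ h : b + σ b + 0 * σ 0 = 0, ltt hσ ζ h₀ (xu * vz xu xh m * (vz xu xh m')⁻¹) = qq hσ 0 b h := by
  rw [map_mul, map_mul, map_inv, ltt_u, ltt_vz, ltt_vz, qq_inv, qq_mul, qq_mul]
  have e : 1 + ((acH σ ζ ^ m : Fˣ) : F) * 1 + -(((acH σ ζ ^ m' : Fˣ) : F) * 1) = 0 := by
    rw [mul_one, mul_one, htri]
    ring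
  exact ⟨_, _, qq_congr hσ _ e rfl⟩

/-- The generic relators. -/
theorem exists_general [Finite F] {K : Type*} [Field K] [Finite K] [Algebra (ZMod p) K] (ι : K →+* F)
    (hιr : ∀ x, σ x = x → ∃ c, ι c = x) {nK : K} (hιn : ι nK = ((nrH σ ζ : Fˣ) : F))
    (hζ : ∀ u : Fˣ, ∃ k : ℤ, ζ ^ k = u) {N : ℕ} (hNpos : 0 < N) (hN : orderOf ζ = N) {k₀ : ℤ}
    (hk₀ : (Units.map (σ : F →* F) ζ)⁻¹ = ζ ^ k₀)
    (hnorm : ∀ x : F, σ x = x → x ≠ 0 → ∃ t : Fˣ, nrm σ (t : F) = x)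
    {c₀ : F} (hc₀ : c₀ * σ c₀ = 1) (hc₀1 : c₀ ≠ 1) (hgenC : ∀ c, c * σ c = 1 → ∃ k : ℕ, c₀ ^ k = c)
    (hT : ∃ e : F, e + σ e ≠ 0) {m m' : ℤ}
    (hm1 : nrm σ ((ζ ^ m : Fˣ) : F) = 1)
    (hd₀ : ((acH σ ζ ^ m : Fˣ) : F) - σ ((acH σ ζ ^ m : Fˣ) : F) ≠ 0)
    (htri : 1 + ((acH σ ζ ^ m : Fˣ) : F) = ((acH σ ζ ^ m' : Fˣ) : F))
    (hsr : Function.Surjective (aeval ((acH σ (ζ ^ m) : Fˣ) : F) : (ZMod p)[X] →ₐ[ZMod p] F))
    (hsν : Function.Surjective (aeval ((acH σ ζ : Fˣ) : F) : (ZMod p)[X] →ₐ[ZMod p] F))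
    (hsn : Function.Surjective (aeval nK : (ZMod p)[X] →ₐ[ZMod p] K)) :
    ∃ L : List XX, L.length = 15 ∧ (∀ r ∈ L, ltt hσ ζ h₀ r = 1) ∧
      ∀ (Γ : Type) [Group Γ] (π : XX →* Γ) (_ : Function.Surjective π) (φ : Γ →* GG σ)
        (_ : ∀ x, φ (π x) = ltt hσ ζ h₀ x), (∀ r ∈ L, π r = 1) → Function.Bijective φ := by
  have hsn' : ∀ c, σ c = c → ∃ f : (ZMod p)[X], aeval ((nrH σ ζ : Fˣ) : F) f = c := by
    intro c hc
    obtain ⟨c', rfl⟩ := hιr c hc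
    obtain ⟨f, rfl⟩ := hsn c'
    exact ⟨f, by rw [iota_aeval, hιn]⟩
  set y : XX := ⁅xu, vz xu xh m⁆ with hy
  obtain ⟨hy0, hφy⟩ := ltt_comm hσ ζ h₀ m
  have hu0 : vz xu xh 0 = xu := by simp [vz]
  have hyM : y ∈ MM xu xh := by
    have := comm_mem (U := xu) (H := xh) 0 m
    rwa [hu0] at this
  obtain ⟨L₀, hL₀, hL₀t, hL₀Γ⟩ := exists_common hσ ζ h₀ ι hιr hιn hζ hN hk₀ hnorm hc₀ hc₀1 hgenC hyM hφy hd₀ hsν hsn
  have hliftZ := lift_Z hσ (ltt hσ ζ h₀) (H := xh) hφy (ltt_h hσ ζ h₀) hd₀ hsn'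
  have r2 : ltt hσ ζ h₀ ⁅xh ^ m, y⁆ = 1 := by
    rw [map_commutatorElement, map_zpow, ltt_h, hφy, tt_zpow]
    exact ltt_comm_central hσ _ hm1
  have r5 : ltt hσ ζ h₀ ⁅xu, y⁆ = 1 := by
    rw [map_commutatorElement, ltt_u, hφy]
    obtain ⟨h'', e⟩ := qq_comm hσ h₀ hy0
    rw [e, ← qq_zero hσ]
    refine qq_congr hσ _ rfl ?_
    simp
  obtain ⟨z₆, hz₆, e₆⟩ : ∃ z ∈ MM y xh, ltt hσ ζ h₀ z = ltt hσ ζ h₀ (xu * vz xu xh m * (vz xu xh m')⁻¹) := by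
    obtain ⟨b, h, e⟩ := ltt_first_zero hσ ζ h₀ m m' htri
    obtain ⟨z, hz, ez⟩ := hliftZ b h
    exact ⟨z, hz, by rw [ez, e]⟩
  obtain ⟨w₇, hw₇, e₇⟩ : ∃ x ∈ MM xu (xh ^ m), ltt hσ ζ h₀ x = ltt hσ ζ h₀ (xh * xu * xh⁻¹) := by
    have e : ltt hσ ζ h₀ (xh * xu * xh⁻¹) = qq hσ (ac σ (ζ : F) * 1) (nrm σ (ζ : F) * b₀) (cstr_tt hσ ζ.ne_zero h₀) := by
      rw [map_mul, map_mul, map_inv, ltt_h, ltt_u, tt_qq]
    obtain ⟨x, hx, ex⟩ := lift_A hσ h₀ (ltt hσ ζ h₀) (U := xu) (H := xh ^ m) (ζ' := ζ ^ m) (ltt_u hσ ζ h₀)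
      (by rw [map_zpow, ltt_h, tt_zpow]) hsr hT _ _ (cstr_tt hσ ζ.ne_zero h₀)
    exact ⟨x, hx, by rw [ex, e]⟩
  refine ⟨L₀ ++ [⁅xh ^ m, y⁆, ⁅xu, y⁆, xu * vz xu xh m * (vz xu xh m')⁻¹ * z₆⁻¹, xh * xu * xh⁻¹ * w₇⁻¹], ?_, ?_, ?_⟩
  · simp [hL₀]
  · intro r hr
    rw [List.mem_append] at hr
    rcases hr with hr | hr
    · exact hL₀t r hr
    · simp only [List.mem_cons, List.not_mem_nil, or_false] at hr
      rcases hr with rfl | rfl | rfl | rfl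
      · exact r2
      · exact r5
      · rw [map_mul, map_inv, e₆, mul_inv_cancel]
      · rw [map_mul, map_inv, e₇, mul_inv_cancel]
  · intro Γ _ π hπ φ hφ hL
    obtain ⟨hHN, hG, hcont⟩ := hL₀Γ Γ π hπ φ hφ (fun r hr => hL r (List.mem_append_left _ hr))
    have hX : ∀ r ∈ [⁅xh ^ m, y⁆, ⁅xu, y⁆, xu * vz xu xh m * (vz xu xh m')⁻¹ * z₆⁻¹, xh * xu * xh⁻¹ * w₇⁻¹], π r = 1 :=
      fun r hr => hL r (List.mem_append_right _ hr)
    have h2 := hX ⁅xh ^ m, y⁆ (by simp)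
    have h5 := hX ⁅xu, y⁆ (by simp)
    have h6 := hX (xu * vz xu xh m * (vz xu xh m')⁻¹ * z₆⁻¹) (by simp)
    have h7 := hX (xh * xu * xh⁻¹ * w₇⁻¹) (by simp)
    rw [map_commutatorElement, map_zpow, commutatorElement_eq_one_iff_commute] at h2
    rw [map_commutatorElement, commutatorElement_eq_one_iff_commute] at h5
    rw [map_mul π (xu * vz xu xh m * (vz xu xh m')⁻¹), map_inv, mul_inv_eq_one] at h6
    rw [map_mul π (xh * xu * xh⁻¹), map_inv, mul_inv_eq_one] at h7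
    have h7' : π xh * π xu * (π xh)⁻¹ ∈ MM (π xu) ((π xh) ^ m) := by
      have e : π xh * π xu * (π xh)⁻¹ = π (xh * xu * xh⁻¹) := by simp
      rw [e, h7, ← map_zpow]
      exact map_MM π hw₇
    have hA := general_A hNpos hHN h7'
    have cent := general_cent hA h2 h5
    obtain ⟨hUN, hHN'⟩ := norm_of_cent cent
    have h6' : π xu * vz (π xu) (π xh) m * (vz (π xu) (π xh) m')⁻¹ ∈ MM (π y) (π xh) := by
      have e : π xu * vz (π xu) (π xh) m * (vz (π xu) (π xh) m')⁻¹ = π (xu * vz xu xh m * (vz xu xh m')⁻¹) := by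
        simp only [map_mul, map_inv, map_vz]
      rw [e, h6]
      exact map_MM π hz₆
    have hY : π y ∈ MM (π y) (π xh) := by
      have := vz_mem (π y) (π xh) 0
      simpa [vz] using this
    have hc : ⁅π xu, vz (π xu) (π xh) m⁆ ∈ MM (π y) (π xh) := by
      have e : ⁅π xu, vz (π xu) (π xh) m⁆ = π y := by
        rw [hy, map_commutatorElement, map_vz]
      rw [e]
      exact hY
    exact hcont cent (general_hab _ hUN hHN' hA h6' hc)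

end target

end Cfsg.Agent.Lib.PresSU3
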