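import Cfsg.Prelude.Def_Classical
import Mathlib

/-!
# The special unitary group in dimension three for the form with a Witt basis
-/

set_option autoImplicit false

namespace Cfsg.Agent.Lib.PresSU3

open Matrix Cfsg

variable {F : Type*} [Field F] (σ : F →+* F)

/-- The form with a Witt basis. -/
def fw (x y : Fin 3 → F) : F := x 0 * σ (y 2) + x 1 * σ (y 1) + x 2 * σ (y 0)

/-- The special unitary group of the form. -/
def SUw : Subgroup (SpecialLinearGroup (Fin 3) F) := Cfsg.preserving (Cfsg.slToMat 3 F) (fw σ)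

lemma mem_SUw {A : SpecialLinearGroup (Fin 3) F} :
    A ∈ SUw σ ↔ ∀ u v, fw σ (A.1 *ᵥ u) (A.1 *ᵥ v) = fw σ u v := Iff.rfl

/-- The unipotent matrices. -/
def uM (a b : F) : Matrix (Fin 3) (Fin 3) F := !![1, a, b; 0, 1, -σ a; 0, 0, 1]

/-- The torus matrices. -/
def tM (t : F) : Matrix (Fin 3) (Fin 3) F := !![t, 0, 0; 0, σ t / t, 0; 0, 0, (σ t)⁻¹]

/-- The Weyl matrix. -/
def wM : Matrix (Fin 3) (Fin 3) F := !![0, 0, 1; 0, -1, 0; 1, 0, 0]

lemma uM_apply (a b : F) (x : Fin 3 → F) :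
    uM σ a b *ᵥ x = ![x 0 + a * x 1 + b * x 2, x 1 - σ a * x 2, x 2] := by
  ext i
  fin_cases i <;> simp [uM, mulVec, dotProduct, Fin.sum_univ_three] <;> ring

lemma tM_apply (t : F) (x : Fin 3 → F) :
    tM σ t *ᵥ x = ![t * x 0, σ t / t * x 1, (σ t)⁻¹ * x 2] := by
  ext i
  fin_cases i <;> simp [tM, mulVec, dotProduct, Fin.sum_univ_three]

lemma wM_apply (x : Fin 3 → F) : (wM : Matrix (Fin 3) (Fin 3) F) *ᵥ x = ![x 2, -x 1, x 0] := by
  ext i
  fin_cases i <;> simp [wM, mulVec, dotProduct, Fin.sum_univ_three]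

lemma det_uM (a b : F) : (uM σ a b).det = 1 := by
  simp [uM, det_fin_three]

lemma det_tM {t : F} (ht : t ≠ 0) (hs : σ t ≠ 0) : (tM σ t).det = 1 := by
  simp [tM, det_fin_three]
  field_simp

lemma det_wM : (wM : Matrix (Fin 3) (Fin 3) F).det = 1 := by
  simp [wM, det_fin_three]

lemma uM_mul (a b c d : F) : uM σ a b * uM σ c d = uM σ (a + c) (b + d - a * σ c) := by
  ext i j
  fin_cases i <;> fin_cases j <;> simp [uM, Matrix.mul_apply, Fin.sum_univ_three] <;> ring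

variable {σ}

lemma cstr_mul (hσ : ∀ x, σ (σ x) = x) {a b c d : F} (h : b + σ b + a * σ a = 0) (h' : d + σ d + c * σ c = 0) :
    (b + d - a * σ c) + σ (b + d - a * σ c) + (a + c) * σ (a + c) = 0 := by
  simp only [map_add, map_sub, map_mul, hσ]
  linear_combination h + h'

lemma cstr_inv (hσ : ∀ x, σ (σ x) = x) {a b : F} (h : b + σ b + a * σ a = 0) :
    σ b + σ (σ b) + (-a) * σ (-a) = 0 := by
  simp only [map_neg, hσ]
  linear_combination h

lemma cstr_zero : (0 : F) + σ 0 + 0 * σ 0 = 0 := by simp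

lemma fw_uM (hσ : ∀ x, σ (σ x) = x) {a b : F} (h : b + σ b + a * σ a = 0) (u v : Fin 3 → F) :
    fw σ (uM σ a b *ᵥ u) (uM σ a b *ᵥ v) = fw σ u v := by
  rw [uM_apply, uM_apply]
  simp only [fw, map_add, map_sub, map_mul, hσ, cons_val_zero, cons_val_one, cons_val]
  linear_combination (u 2 * σ (v 2)) * h

lemma fw_tM (hσ : ∀ x, σ (σ x) = x) {t : F} (ht : t ≠ 0) (u v : Fin 3 → F) :
    fw σ (tM σ t *ᵥ u) (tM σ t *ᵥ v) = fw σ u v := by
  have hs : σ t ≠ 0 := (map_ne_zero σ).2 ht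
  rw [tM_apply, tM_apply]
  simp only [fw, map_mul, map_inv₀, map_div₀, hσ, cons_val_zero, cons_val_one, cons_val]
  field_simp

lemma fw_wM (u v : Fin 3 → F) :
    fw σ ((wM : Matrix (Fin 3) (Fin 3) F) *ᵥ u) ((wM : Matrix (Fin 3) (Fin 3) F) *ᵥ v) = fw σ u v := by
  rw [wM_apply, wM_apply]
  simp only [fw, map_neg, cons_val_zero, cons_val_one, cons_val]
  ring

/-- The group. -/
abbrev GG (σ : F →+* F) : Type _ := ↥(SUw σ)

/-- The unipotent elements. -/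
def qq (hσ : ∀ x, σ (σ x) = x) (a b : F) (h : b + σ b + a * σ a = 0) : GG σ :=
  ⟨⟨uM σ a b, det_uM σ a b⟩, fw_uM hσ h⟩

/-- The torus elements. -/
def tt (hσ : ∀ x, σ (σ x) = x) (t : Fˣ) : GG σ :=
  ⟨⟨tM σ t, det_tM σ t.ne_zero ((map_ne_zero σ).2 t.ne_zero)⟩, fw_tM hσ t.ne_zero⟩

/-- The Weyl element. -/
def ww (σ : F →+* F) : GG σ := ⟨⟨wM, det_wM⟩, fw_wM⟩

lemma coe_qq (hσ : ∀ x, σ (σ x) = x) (a b : F) (h : b + σ b + a * σ a = 0) :
    (qq hσ a b h).1.1 = uM σ a b := rfl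

lemma coe_tt (hσ : ∀ x, σ (σ x) = x) (t : Fˣ) : (tt hσ t).1.1 = tM σ t := rfl

lemma coe_ww : (ww σ).1.1 = wM := rfl

lemma GG_ext {g g' : GG σ} (h : g.1.1 = g'.1.1) : g = g' := Subtype.ext (Subtype.ext h)

lemma coe_mul (g g' : GG σ) : (g * g').1.1 = g.1.1 * g'.1.1 := rfl

lemma coe_one : (1 : GG σ).1.1 = 1 := rfl

variable (hσ : ∀ x, σ (σ x) = x)
include hσ

lemma qq_mul {a b c d : F} (h : b + σ b + a * σ a = 0) (h' : d + σ d + c * σ c = 0) :
    qq hσ a b h * qq hσ c d h' = qq hσ (a + c) (b + d - a * σ c) (cstr_mul hσ h h') :=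
  GG_ext (uM_mul σ a b c d)

lemma qq_zero : qq hσ 0 0 cstr_zero = 1 := by
  apply GG_ext
  rw [coe_qq, coe_one]
  ext i j
  fin_cases i <;> fin_cases j <;> simp [uM]

lemma qq_inv {a b : F} (h : b + σ b + a * σ a = 0) :
    (qq hσ a b h)⁻¹ = qq hσ (-a) (σ b) (cstr_inv hσ h) := by
  apply inv_eq_of_mul_eq_one_right
  rw [qq_mul]
  have e1 : a + -a = 0 := by ring
  have e2 : b + σ b - a * σ (-a) = 0 := by
    rw [map_neg]
    linear_combination h
  simp only [e1, e2]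
  exact qq_zero hσ

omit hσ in
lemma map_injective_of_ne (hσ : ∀ x, σ (σ x) = x) {x y : F} (h : σ x = σ y) : x = y := by
  have := congrArg σ h
  rwa [hσ, hσ] at this

lemma qq_congr {a b a' b' : F} (h : b + σ b + a * σ a = 0) (ha : a = a') (hb : b = b') :
    qq hσ a b h = qq hσ a' b' (ha ▸ hb ▸ h) := by
  subst ha hb
  rfl

lemma qq_inj {a b a' b' : F} {h : b + σ b + a * σ a = 0} {h' : b' + σ b' + a' * σ a' = 0}
    (e : qq hσ a b h = qq hσ a' b' h') : a = a' ∧ b = b' := by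
  have e2 : uM σ a b = uM σ a' b' := congrArg (fun g : GG σ => g.1.1) e
  have h1 := congrFun (congrFun e2 0) 1
  have h2 := congrFun (congrFun e2 0) 2
  simpa [uM] using And.intro h1 h2

lemma tt_mul (s t : Fˣ) : tt hσ s * tt hσ t = tt hσ (s * t) := by
  apply GG_ext
  rw [coe_mul, coe_tt, coe_tt, coe_tt]
  have h0 := s.ne_zero
  have h1 := t.ne_zero
  have h2 : σ (s : F) ≠ 0 := (map_ne_zero σ).2 h0
  have h3 : σ (t : F) ≠ 0 := (map_ne_zero σ).2 h1
  ext i j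
  fin_cases i <;> fin_cases j <;> simp [tM, Matrix.mul_apply, Fin.sum_univ_three] <;> field_simp

lemma tt_one : tt hσ 1 = 1 := by
  apply GG_ext
  rw [coe_tt, coe_one]
  ext i j
  fin_cases i <;> fin_cases j <;> simp [tM]

lemma tt_inv (t : Fˣ) : (tt hσ t)⁻¹ = tt hσ t⁻¹ := by
  apply inv_eq_of_mul_eq_one_right
  rw [tt_mul, mul_inv_cancel, tt_one]

lemma tt_pow (t : Fˣ) (k : ℕ) : tt hσ t ^ k = tt hσ (t ^ k) := by
  induction k with
  | zero => simp [tt_one]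
  | succ k ih => rw [pow_succ, ih, tt_mul, pow_succ]

lemma tt_zpow (t : Fˣ) (k : ℤ) : tt hσ t ^ k = tt hσ (t ^ k) := by
  obtain ⟨n, rfl | rfl⟩ := Int.eq_nat_or_neg k
  · simpa using tt_pow hσ t n
  · simp [tt_pow, tt_inv]

lemma tt_inj {s t : Fˣ} (e : tt hσ s = tt hσ t) : s = t := by
  have e2 : tM σ s = tM σ t := congrArg (fun g : GG σ => g.1.1) e
  have h1 := congrFun (congrFun e2 0) 0
  apply Units.ext
  simpa [tM] using h1

/-- The value of the action on the first coordinate. -/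
def ac (σ : F →+* F) (t : F) : F := t ^ 2 / σ t

/-- The norm. -/
def nrm (σ : F →+* F) (t : F) : F := t * σ t

omit hσ in
lemma ac_mul (s t : F) : ac σ (s * t) = ac σ s * ac σ t := by
  simp only [ac, map_mul, mul_pow, mul_div_mul_comm]

omit hσ in
lemma nrm_mul (s t : F) : nrm σ (s * t) = nrm σ s * nrm σ t := by
  simp only [nrm, map_mul]
  ring

lemma sig_ac (t : F) : σ (ac σ t) = σ t ^ 2 / t := by
  simp only [ac, map_div₀, map_pow, hσ]

lemma sig_nrm (t : F) : σ (nrm σ t) = nrm σ t := by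
  simp only [nrm, map_mul, hσ]
  ring

lemma cstr_tt {a b : F} {t : F} (ht : t ≠ 0) (h : b + σ b + a * σ a = 0) :
    nrm σ t * b + σ (nrm σ t * b) + (ac σ t * a) * σ (ac σ t * a) = 0 := by
  have hs : σ t ≠ 0 := (map_ne_zero σ).2 ht
  rw [map_mul, map_mul, sig_nrm hσ, sig_ac hσ]
  simp only [ac, nrm]
  field_simp
  linear_combination (t * σ t) * h

lemma tt_qq (t : Fˣ) {a b : F} (h : b + σ b + a * σ a = 0) :
    tt hσ t * qq hσ a b h * (tt hσ t)⁻¹ =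
      qq hσ (ac σ t * a) (nrm σ t * b) (cstr_tt hσ t.ne_zero h) := by
  rw [mul_inv_eq_iff_eq_mul]
  apply GG_ext
  rw [coe_mul, coe_mul, coe_tt, coe_qq, coe_qq]
  have h0 := t.ne_zero
  have h2 : σ (t : F) ≠ 0 := (map_ne_zero σ).2 h0
  ext i j
  fin_cases i <;> fin_cases j <;>
    simp [tM, uM, ac, nrm, hσ, Matrix.mul_apply, Fin.sum_univ_three] <;> field_simp

lemma ww_sq : ww σ * ww σ = 1 := by
  apply GG_ext
  rw [coe_mul, coe_ww, coe_one]
  ext i j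
  fin_cases i <;> fin_cases j <;> simp [wM, Matrix.mul_apply, Fin.sum_univ_three]

lemma ww_inv : (ww σ)⁻¹ = ww σ := inv_eq_of_mul_eq_one_right (ww_sq hσ)

/-- The action of the Weyl element on the torus. -/
lemma ww_tt (t : Fˣ) : ww σ * tt hσ t * (ww σ)⁻¹ = tt hσ (Units.map (σ : F →* F) t)⁻¹ := by
  rw [mul_inv_eq_iff_eq_mul]
  apply GG_ext
  rw [coe_mul, coe_mul, coe_tt, coe_tt, coe_ww]
  have h0 := t.ne_zero
  have h2 : σ (t : F) ≠ 0 := (map_ne_zero σ).2 h0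
  ext i j
  fin_cases i <;> fin_cases j <;>
    simp [tM, wM, hσ, Matrix.mul_apply, Fin.sum_univ_three] <;> try field_simp

lemma cstr_rho1 {a b : F} (hb : b ≠ 0) (h : b + σ b + a * σ a = 0) :
    1 / b + σ (1 / b) + (-a / b) * σ (-a / b) = 0 := by
  have hs : σ b ≠ 0 := (map_ne_zero σ).2 hb
  simp only [map_div₀, map_one, map_neg]
  field_simp
  linear_combination h

lemma cstr_rho2 {a b : F} (hb : b ≠ 0) (h : b + σ b + a * σ a = 0) :
    1 / b + σ (1 / b) + (-a / σ b) * σ (-a / σ b) = 0 := by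
  have hs : σ b ≠ 0 := (map_ne_zero σ).2 hb
  simp only [map_div₀, map_one, map_neg, hσ]
  field_simp
  linear_combination h

/-- The Moufang identity. -/
lemma moufang {a b : F} (hb : b ≠ 0) (h : b + σ b + a * σ a = 0) :
    ww σ * qq hσ a b h * (ww σ)⁻¹ =
      qq hσ (-a / σ b) (1 / b) (cstr_rho2 hσ hb h) * ww σ * tt hσ (Units.mk0 b hb) *
        qq hσ (-a / b) (1 / b) (cstr_rho1 hσ hb h) := by
  rw [ww_inv hσ]
  apply GG_ext
  simp only [coe_mul, coe_tt, coe_qq, coe_ww]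
  have hs : σ b ≠ 0 := (map_ne_zero σ).2 hb
  have h1 : σ b = -b - a * σ a := by linear_combination h
  ext i j
  fin_cases i <;> fin_cases j <;>
    simp [tM, uM, wM, hσ, Matrix.mul_apply, Fin.sum_univ_three] <;> field_simp <;>
    first | linear_combination h | linear_combination (-1 : F) * h | ring | skip

omit hσ in
lemma big_entries (a₁ b₁ a₂ b₂ t : F) :
    (uM σ a₁ b₁ * wM * tM σ t * uM σ a₂ b₂ : Matrix (Fin 3) (Fin 3) F) 2 0 = t ∧
    (uM σ a₁ b₁ * wM * tM σ t * uM σ a₂ b₂ : Matrix (Fin 3) (Fin 3) F) 2 1 = t * a₂ ∧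
    (uM σ a₁ b₁ * wM * tM σ t * uM σ a₂ b₂ : Matrix (Fin 3) (Fin 3) F) 2 2 = t * b₂ ∧
    (uM σ a₁ b₁ * wM * tM σ t * uM σ a₂ b₂ : Matrix (Fin 3) (Fin 3) F) 0 0 = b₁ * t ∧
    (uM σ a₁ b₁ * wM * tM σ t * uM σ a₂ b₂ : Matrix (Fin 3) (Fin 3) F) 1 0 = -σ a₁ * t := by
  refine ⟨?_, ?_, ?_, ?_, ?_⟩ <;> simp [tM, uM, wM, Matrix.mul_apply, Fin.sum_univ_three]

/-- Uniqueness in the big cell. -/
lemma big_inj {a₁ b₁ a₂ b₂ a₁' b₁' a₂' b₂' : F} {t t' : Fˣ}
    {h₁ : b₁ + σ b₁ + a₁ * σ a₁ = 0} {h₂ : b₂ + σ b₂ + a₂ * σ a₂ = 0}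
    {h₁' : b₁' + σ b₁' + a₁' * σ a₁' = 0} {h₂' : b₂' + σ b₂' + a₂' * σ a₂' = 0}
    (e : qq hσ a₁ b₁ h₁ * ww σ * tt hσ t * qq hσ a₂ b₂ h₂ =
      qq hσ a₁' b₁' h₁' * ww σ * tt hσ t' * qq hσ a₂' b₂' h₂') :
    a₁ = a₁' ∧ b₁ = b₁' ∧ t = t' ∧ a₂ = a₂' ∧ b₂ = b₂' := by
  have e2 : uM σ a₁ b₁ * wM * tM σ t * uM σ a₂ b₂ = uM σ a₁' b₁' * wM * tM σ t' * uM σ a₂' b₂' :=
    congrArg (fun g : GG σ => g.1.1) e
  obtain ⟨c1, c2, c3, c4, c5⟩ := big_entries (σ := σ) a₁ b₁ a₂ b₂ (t : F)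
  obtain ⟨d1, d2, d3, d4, d5⟩ := big_entries (σ := σ) a₁' b₁' a₂' b₂' (t' : F)
  rw [e2] at c1 c2 c3 c4 c5
  have ht : (t : F) = t' := c1.symm.trans d1
  have h0 := t.ne_zero
  have e3 : t = t' := Units.ext ht
  refine ⟨?_, ?_, e3, ?_, ?_⟩
  · have : σ a₁ = σ a₁' := by
      have h5 : -σ a₁ * t = -σ a₁' * t' := c5.symm.trans d5
      rw [← ht] at h5
      have := mul_right_cancel₀ h0 h5
      exact neg_inj.1 this
    exact (map_injective_of_ne hσ this)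
  · have h5 : b₁ * t = b₁' * t' := c4.symm.trans d4
    rw [← ht] at h5
    exact mul_right_cancel₀ h0 h5
  · have h5 : (t : F) * a₂ = t' * a₂' := c2.symm.trans d2
    rw [← ht] at h5
    exact mul_left_cancel₀ h0 h5
  · have h5 : (t : F) * b₂ = t' * b₂' := c3.symm.trans d3
    rw [← ht] at h5
    exact mul_left_cancel₀ h0 h5

/-- The big cell does not contain the identity. -/
lemma big_ne_one {a₁ b₁ a₂ b₂ : F} {t : Fˣ}
    {h₁ : b₁ + σ b₁ + a₁ * σ a₁ = 0} {h₂ : b₂ + σ b₂ + a₂ * σ a₂ = 0} :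
    qq hσ a₁ b₁ h₁ * ww σ * tt hσ t * qq hσ a₂ b₂ h₂ ≠ 1 := by
  intro e
  have e2 : uM σ a₁ b₁ * wM * tM σ t * uM σ a₂ b₂ = 1 := congrArg (fun g : GG σ => g.1.1) e
  obtain ⟨c1, -⟩ := big_entries (σ := σ) a₁ b₁ a₂ b₂ (t : F)
  rw [e2] at c1
  simp at c1
  exact t.ne_zero c1.symm

/-- The identity in the Borel subgroup. -/
lemma borel_inj {a b : F} {t : Fˣ} {h : b + σ b + a * σ a = 0} (e : qq hσ a b h * tt hσ t = 1) :
    a = 0 ∧ b = 0 ∧ t = 1 := by
  have e2 : uM σ a b * tM σ t = 1 := congrArg (fun g : GG σ => g.1.1) e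
  have c1 := congrFun (congrFun e2 0) 0
  have c2 := congrFun (congrFun e2 0) 1
  have c3 := congrFun (congrFun e2 0) 2
  have hs : σ (t : F) ≠ 0 := (map_ne_zero σ).2 t.ne_zero
  have h0 := t.ne_zero
  simp [tM, uM, Matrix.mul_apply, Fin.sum_univ_three] at c1 c2 c3
  exact ⟨c2, c3, c1⟩

omit hσ in
lemma mulVec_e0 (A : Matrix (Fin 3) (Fin 3) F) :
    A *ᵥ (Pi.single 0 1 : Fin 3 → F) = ![A 0 0, A 1 0, A 2 0] := by
  ext i
  fin_cases i <;> simp [mulVec, dotProduct, Fin.sum_univ_three]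

omit hσ in
lemma col_form (g : GG σ) (j l : Fin 3) :
    fw σ (g.1.1 *ᵥ Pi.single j 1) (g.1.1 *ᵥ Pi.single l 1) =
      fw σ (Pi.single j 1) (Pi.single l 1) := g.2 _ _

/-- An element fixing the first basis vector is unipotent. -/
lemma fix_e0 (N : GG σ) (h : N.1.1 *ᵥ (Pi.single 0 1 : Fin 3 → F) = Pi.single 0 1) :
    ∃ a b, ∃ hab : b + σ b + a * σ a = 0, N = qq hσ a b hab := by
  set m := N.1.1 with hm
  have h00 : m 0 0 = 1 := by
    have := congrFun h 0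
    rw [mulVec_e0] at this
    simpa using this
  have h10 : m 1 0 = 0 := by
    have := congrFun h 1
    rw [mulVec_e0] at this
    simpa using this
  have h20 : m 2 0 = 0 := by
    have := congrFun h 2
    rw [mulVec_e0] at this
    simpa using this
  have hdet : m.det = 1 := N.1.2
  have c1 := col_form N 1 0
  have c2 := col_form N 2 0
  have c3 := col_form N 1 2
  have c4 := col_form N 2 2
  simp only [mulVec_single_one, ← hm, fw, col_apply, h00, h10, h20, map_one, map_zero, mul_zero,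
    zero_add, add_zero, mul_one, Pi.single_apply, zero_mul] at c1 c2 c3 c4
  simp at c1 c2 c3 c4
  rw [det_fin_three, h00, h10, h20, c1, c2] at hdet
  simp at hdet
  rw [c2, hdet, c1, map_one] at c3
  rw [c2, map_one] at c4
  have h12 : m 1 2 = -σ (m 0 1) := by
    have h3 : σ (m 1 2) = - m 0 1 := by linear_combination c3
    have h4 := congrArg σ h3
    rw [hσ, map_neg] at h4
    exact h4
  refine ⟨m 0 1, m 0 2, ?_, ?_⟩
  · rw [h12, map_neg, hσ] at c4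
    linear_combination c4
  · apply GG_ext
    rw [coe_qq, ← hm]
    ext i j
    fin_cases i <;> fin_cases j <;> simp [uM, h00, h10, h20, c1, c2, hdet, h12]

/-- The Bruhat decomposition. -/
theorem bruhat (g : GG σ) :
    (∃ a b, ∃ hab : b + σ b + a * σ a = 0, ∃ t : Fˣ, g = qq hσ a b hab * tt hσ t) ∨
    (∃ a₁ b₁, ∃ h₁ : b₁ + σ b₁ + a₁ * σ a₁ = 0, ∃ t : Fˣ, ∃ a₂ b₂, ∃ h₂ : b₂ + σ b₂ + a₂ * σ a₂ = 0,
      g = qq hσ a₁ b₁ h₁ * ww σ * tt hσ t * qq hσ a₂ b₂ h₂) := by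
  set m := g.1.1 with hm
  have hiso := col_form g 0 0
  simp only [mulVec_single_one, ← hm, fw, col_apply, Pi.single_apply] at hiso
  simp at hiso
  by_cases h2 : m 2 0 = 0
  · left
    rw [h2] at hiso
    simp only [map_zero, mul_zero, zero_mul, zero_add, add_zero] at hiso
    have h1 : m 1 0 = 0 := by
      rcases mul_eq_zero.1 hiso with h | h
      · exact h
      · exact (map_eq_zero σ).1 h
    have hdet : m.det = 1 := g.1.2
    rw [det_fin_three, h1, h2] at hdet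
    simp at hdet
    have h0 : m 0 0 ≠ 0 := by
      intro h0
      rw [h0] at hdet
      simp at hdet
    set t : Fˣ := Units.mk0 (m 0 0) h0 with ht
    have hN : (g * tt hσ t⁻¹).1.1 *ᵥ (Pi.single 0 1 : Fin 3 → F) = Pi.single 0 1 := by
      rw [coe_mul, ← hm, coe_tt, mulVec_e0]
      ext i
      fin_cases i <;> simp [tM, Matrix.mul_apply, Fin.sum_univ_three, h1, h2, ht, h0]
    obtain ⟨a, b, hab, e⟩ := fix_e0 hσ _ hN
    refine ⟨a, b, hab, t, ?_⟩
    rw [← e, mul_assoc, tt_mul, inv_mul_cancel, tt_one, mul_one]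
  · right
    set t : Fˣ := Units.mk0 (m 2 0) h2 with ht
    have hs : σ (m 2 0) ≠ 0 := (map_ne_zero σ).2 h2
    set b₁ := m 0 0 / m 2 0 with hb₁
    set a₁ := σ (-m 1 0 / m 2 0) with ha₁
    have h₁ : b₁ + σ b₁ + a₁ * σ a₁ = 0 := by
      simp only [hb₁, ha₁, map_div₀, map_neg, hσ]
      field_simp
      linear_combination hiso
    set B := qq hσ a₁ b₁ h₁ * ww σ * tt hσ t with hB
    have hN : (B⁻¹ * g).1.1 *ᵥ (Pi.single 0 1 : Fin 3 → F) = Pi.single 0 1 := by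
      have e1 : B.1.1 *ᵥ (Pi.single 0 1 : Fin 3 → F) = g.1.1 *ᵥ Pi.single 0 1 := by
        rw [hB, coe_mul, coe_mul, coe_qq, coe_ww, coe_tt, mulVec_e0, mulVec_e0, ← hm]
        ext i
        fin_cases i <;> simp [tM, uM, wM, Matrix.mul_apply, Fin.sum_univ_three, ht, hb₁, ha₁, hσ, h2]
      rw [coe_mul, ← mulVec_mulVec, ← e1, mulVec_mulVec, ← coe_mul, inv_mul_cancel, coe_one, one_mulVec]
    obtain ⟨a, b, hab, e⟩ := fix_e0 hσ _ hN
    refine ⟨a₁, b₁, h₁, t, a, b, hab, ?_⟩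
    rw [← e, ← hB]
    group

end Cfsg.Agent.Lib.PresSU3
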